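import Groth.Agent.NumAffine.Local

/-! Classification of the minimal numerical types of genus one. -/

namespace Groth.Agent.NumAffine

open Models Finset Real NumType

variable {n : ℕ} {T : NumericalType n}

/-- A path of length `t`. -/
structure IsP (T : NumericalType n) (u : ℕ → Fin n) (t : ℕ) : Prop where
  inj : ∀ a b, a < t → b < t → u a = u b → a = b
  edge : ∀ a, a + 1 < t → T.a (u a) (u (a + 1)) ≠ 0

theorem IsP.le {u : ℕ → Fin n} {t : ℕ} (h : IsP T u t) : t ≤ n := by
  simpa using card_le_card_of_injOn (s := range t) (t := (univ : Finset (Fin n))) u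
    (fun _ _ => mem_univ _) (fun a ha b hb => h.inj a b (mem_range.1 ha) (mem_range.1 hb))

theorem sym0 {i j : Fin n} (h : T.a i j ≠ 0) : T.a j i ≠ 0 := by rwa [T.symm.apply]

theorem exists_max {P : ℕ → Prop} {k : ℕ} (hk : P k) (hle : ∀ s, P s → s ≤ n) :
    ∃ t, P t ∧ k ≤ t ∧ ∀ s, P s → s ≤ t := by
  classical
  exact ⟨Nat.findGreatest P n, Nat.findGreatest_spec (hle k hk) hk, Nat.le_findGreatest (hle k hk) hk,
    fun s hs => Nat.le_findGreatest (hle s hs) hs⟩

theorem of_chord (h2 : ∀ i, T.IsMinusTwo i) {u : ℕ → Fin n} {t : ℕ} (h : IsP T u t) {a b : ℕ}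
    (hab : a + 1 < b) (hb : b < t) (h0 : T.a (u a) (u b) ≠ 0) : Classified T :=
  of_cycle h2 (fun i => u (a + i)) (b - a + 1) (by omega)
    (fun i j hi hj e => by have := h.inj _ _ (by omega) (by omega) e; omega)
    (fun i hi => h.edge (a + i) (by omega))
    (by rw [show a + (b - a + 1 - 1) = b by omega]; exact h0)

/-- A vertex adjacent to two vertices of a path. -/
theorem of_two_attach (h2 : ∀ i, T.IsMinusTwo i) {u : ℕ → Fin n} {t : ℕ} (h : IsP T u t) {k l : ℕ}
    (hkl : k < l) (hl : l < t) {x : Fin n} (hx : ∀ a < t, u a ≠ x) (h1 : T.a (u k) x ≠ 0)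
    (h3 : T.a (u l) x ≠ 0) : Classified T := by
  refine of_cycle h2 (fun i => if i = 0 then x else u (k + (i - 1))) (l - k + 2) (by omega)
    (fun i j hi hj e => ?_) (fun i hi => ?_) ?_
  · split_ifs at e with hi0 hj0 hj0
    · omega
    · exact absurd e.symm (hx _ (by omega))
    · exact absurd e (hx _ (by omega))
    · have := h.inj _ _ (by omega) (by omega) e; omega
  · rcases i.eq_zero_or_pos with rfl | hi0
    · simpa using sym0 h1
    · simp only [if_neg (show i ≠ 0 by omega), if_neg (show i + 1 ≠ 0 by omega)]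
      rw [show k + (i + 1 - 1) = k + (i - 1) + 1 by omega]
      exact h.edge _ (by omega)
  · simp only [if_pos, if_neg (show l - k + 2 - 1 ≠ 0 by omega)]
    rw [show k + (l - k + 2 - 1 - 1) = l by omega]
    exact sym0 h3

/-- Two vertices attached to a path. -/
theorem of_two_branches (h2 : ∀ i, T.IsMinusTwo i) {u : ℕ → Fin n} {t : ℕ} (h : IsP T u t) {k l : ℕ}
    (hk : 1 ≤ k) (hkl : k ≤ l) (hl : l + 1 < t) {x y : Fin n} (hxy : x ≠ y) (hx : ∀ a < t, u a ≠ x)
    (hy : ∀ a < t, u a ≠ y) (h1 : T.a (u k) x ≠ 0) (h3 : T.a (u l) y ≠ 0) : Classified T := by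
  let v : ℕ → Fin n := fun i =>
    if i = 0 then u (k - 1) else if i = 1 then x else if i ≤ l - k + 3 then u (k + (i - 2)) else y
  refine of_two_branch h2 v (l - k + 5) (by omega) (fun i j hi hj e => ?_) (fun i j hij hj he => ?_)
  · simp only [v] at e
    split_ifs at e <;> first
      | omega
      | exact absurd e.symm (hx _ (by omega))
      | exact absurd e (hx _ (by omega))
      | exact absurd e.symm (hy _ (by omega))
      | exact absurd e (hy _ (by omega))
      | exact absurd e hxy
      | exact absurd e.symm hxy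
      | (have := h.inj _ _ (by omega) (by omega) e; omega)
  · have hv2 : v 2 = u k := by simp [v]
    have hmid : ∀ i, 2 ≤ i → i ≤ l - k + 3 → v i = u (k + (i - 2)) := fun i hi2 hi3 => by
      simp only [v]; rw [if_neg (by omega), if_neg (by omega), if_pos hi3]
    rcases he with ⟨hi, rfl⟩ | ⟨rfl, hi, hj'⟩ | ⟨hi, hj'⟩
    · rw [hv2]
      rcases (show i = 0 ∨ i = 1 by omega) with rfl | rfl
      · simp only [v, if_pos]
        have := h.edge (k - 1) (by omega)
        rwa [show k - 1 + 1 = k by omega] at this
      · simpa [v] using sym0 h1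
    · rw [hmid i hi (by omega), hmid (i + 1) (by omega) (by omega), show k + (i + 1 - 2) = k + (i - 2) + 1 by omega]
      exact h.edge _ (by omega)
    · rw [hmid i (by omega) (by omega), show k + (i - 2) = l by omega]
      simp only [v]; rw [if_neg (by omega), if_neg (by omega), if_neg (by omega)]
      exact h3

/-- A star with three arms. -/
structure IsStar (T : NumericalType n) (f : Fin 3 → ℕ → Fin n) (p : Fin 3 → ℕ) (c : Fin n) : Prop where
  pos : ∀ l, 1 ≤ p l
  zero : ∀ l, f l 0 = c
  inj : ∀ l l' a b, a ≤ p l → b ≤ p l' → f l a = f l' b → (l = l' ∧ a = b) ∨ (a = 0 ∧ b = 0)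
  edge : ∀ l a, a < p l → T.a (f l a) (f l (a + 1)) ≠ 0
  adj : ∀ i j, i ≠ j → T.a i j ≠ 0 →
    ∃ l a, a < p l ∧ ((i = f l a ∧ j = f l (a + 1)) ∨ (j = f l a ∧ i = f l (a + 1)))

theorem exists_others : ∀ l : Fin 3, ∃ l1 l2 : Fin 3, l1 ≠ l ∧ l2 ≠ l ∧ l1 ≠ l2 := by decide

set_option maxHeartbeats 4000000 in
theorem IsStar.classified (h2 : ∀ i, T.IsMinusTwo i) (hn : 2 < n) {f : Fin 3 → ℕ → Fin n} {p : Fin 3 → ℕ}
    {c : Fin n} (h : IsStar T f p c) : Classified T := by
  classical
  by_cases hns : ∃ a, ∃ l, a < p l ∧ ¬ Simple T (f l a) (f l (a + 1))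
  · obtain ⟨l, ha, hs⟩ := Nat.find_spec hns
    set a := Nat.find hns
    obtain ⟨l1, l2, hl1, hl2, hl12⟩ := exists_others l
    let v : ℕ → Fin n := fun i => if i ≤ a + 1 then f l (a + 1 - i) else if i = a + 2 then f l1 1 else f l2 1
    refine of_branch_double h2 hn v (a + 4) (by omega) (fun i j hi hj e => ?_) (fun i j hij hj he => ?_) ?_
    · simp only [v] at e
      have := h.pos l1; have := h.pos l2
      split_ifs at e <;> first
        | omega
        | (rcases h.inj _ _ _ _ (by omega) (by omega) e with ⟨e1, e2⟩ | ⟨e1, e2⟩ <;> first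
            | omega | exact absurd e1 hl1 | exact absurd e1.symm hl1 | exact absurd e1 hl2
            | exact absurd e1.symm hl2 | exact absurd e1 hl12 | exact absurd e1.symm hl12)
    · have hmid : ∀ i ≤ a + 1, v i = f l (a + 1 - i) := fun i hi => if_pos hi
      rcases he with ⟨rfl, hj'⟩ | ⟨hi, hj'⟩
      · rw [hmid i (by omega)]
        rcases (show i + 1 ≤ a + 1 ∨ i = a + 1 by omega) with h' | h'
        · rw [hmid (i + 1) h', show a + 1 - i = a + 1 - (i + 1) + 1 by omega]
          exact sym0 (h.edge l _ (by omega))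
        · simp only [v]; rw [if_neg (by omega), if_pos (by omega), show a + 1 - i = 0 by omega, h.zero l, ← h.zero l1]
          exact h.edge l1 0 (h.pos l1)
      · rw [hmid i (by omega)]
        simp only [v]; rw [if_neg (by omega), if_neg (by omega), show a + 1 - i = 0 by omega, h.zero l, ← h.zero l2]
        exact h.edge l2 0 (h.pos l2)
    · simp only [v, if_pos (show 0 ≤ a + 1 by omega), if_pos (show 1 ≤ a + 1 by omega), Nat.sub_zero,
        Nat.add_sub_cancel]
      exact fun e => hs e.symm
  push Not at hns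
  have hw : ∀ l a, a ≤ p l → T.w (f l a) = T.w c := fun l a => by
    induction a with
    | zero => exact fun _ => by rw [h.zero]
    | succ a ih => exact fun ha => (hns a l (by omega)).1.symm.trans (ih (by omega))
  have hne : ∀ l a, a < p l → f l a ≠ f l (a + 1) := fun l a ha e => by
    rcases h.inj l l a (a + 1) (by omega) (by omega) e with ⟨-, h'⟩ | ⟨-, h'⟩ <;> omega
  have hrow : ∀ l a, 1 ≤ a → a < p l → T.m (f l (a - 1)) + T.m (f l (a + 1)) = 2 * T.m (f l a) := by
    intro l a h1 ha
    obtain ⟨b, rfl⟩ : ∃ b, a = b + 1 := ⟨a - 1, by omega⟩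
    have e := row h2 (f l (b + 1)) {f l b, f l (b + 1 + 1)}
      (by simp only [mem_insert, mem_singleton, not_or]; exact ⟨(hne l b (by omega)).symm, hne l (b + 1) ha⟩)
      fun j hj hjS => by
        by_contra h0
        obtain ⟨l', a', ha', ⟨e1, e2⟩ | ⟨e1, e2⟩⟩ := h.adj _ _ hj.symm h0
        · rcases h.inj l l' _ _ (by omega) (by omega) e1 with ⟨rfl, rfl⟩ | ⟨h', -⟩
          · exact hjS (by simp [e2])
          · omega
        · rcases h.inj l l' _ _ (by omega) (by omega) e2 with ⟨rfl, h'⟩ | ⟨h', -⟩
          · obtain rfl : a' = b := by omega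
            exact hjS (by simp [e1])
          · omega
    rw [sum_pair (fun e => by
      rcases h.inj l l b (b + 1 + 1) (by omega) (by omega) e with ⟨-, h'⟩ | ⟨-, h'⟩ <;> omega)] at e
    rw [T.symm.apply, (hns b l (by omega)).2, (hns (b + 1) l ha).2, hw l b (by omega), hw l (b + 1) (by omega)] at e
    rw [Nat.add_sub_cancel]
    exact mul_left_cancel₀ (T.w_pos c).ne' (by linarith)
  have hend : ∀ l, T.m (f l (p l - 1)) = 2 * T.m (f l (p l)) := by
    intro l
    obtain ⟨b, hb⟩ : ∃ b, p l = b + 1 := ⟨p l - 1, by have := h.pos l; omega⟩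
    rw [hb, Nat.add_sub_cancel]
    have e := row h2 (f l (b + 1)) {f l b} (by simpa using (hne l b (by omega)).symm) fun j hj hjS => by
      by_contra h0
      obtain ⟨l', a', ha', ⟨e1, e2⟩ | ⟨e1, e2⟩⟩ := h.adj _ _ hj.symm h0
      · rcases h.inj l l' _ _ (by omega) (by omega) e1 with ⟨rfl, rfl⟩ | ⟨h', -⟩ <;> omega
      · rcases h.inj l l' _ _ (by omega) (by omega) e2 with ⟨rfl, h'⟩ | ⟨h', -⟩
        · obtain rfl : a' = b := by omega
          exact hjS (by simp [e1])
        · omega
    rw [sum_singleton, T.symm.apply, (hns b l (by omega)).2, hw l b (by omega), hw l (b + 1) (by omega)] at e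
    exact mul_left_cancel₀ (T.w_pos c).ne' (by linarith)
  have harm : ∀ l i, i < p l → T.m (f l (p l - i)) = (i + 1) * T.m (f l (p l)) ∧
      T.m (f l (p l - (i + 1))) = (i + 2) * T.m (f l (p l)) := by
    intro l i
    induction i with
    | zero => exact fun _ => ⟨by simp, by simpa using hend l⟩
    | succ i ih =>
      intro hi
      obtain ⟨e1, e2⟩ := ih (by omega)
      refine ⟨by push_cast; linarith [e2], ?_⟩
      have := hrow l (p l - (i + 1)) (by omega) (by omega)
      rw [show p l - (i + 1) + 1 = p l - i by omega, show p l - (i + 1) - 1 = p l - (i + 1 + 1) by omega] at this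
      push_cast
      linarith
  have hcen : ∑ l, T.m (f l 1) = 2 * T.m c := by
    have e := row h2 c (univ.image fun l => f l 1) (by
        simp only [mem_image, not_exists, not_and]
        intro l _ e
        exact hne l 0 (h.pos l) (by rw [h.zero, e]))
      fun j hj hjS => by
        by_contra h0
        obtain ⟨l', a', ha', ⟨e1, e2⟩ | ⟨e1, e2⟩⟩ := h.adj _ _ hj.symm h0
        · rcases h.inj l' l' a' 0 (by omega) (by omega) (by rw [h.zero, e1]) with ⟨-, rfl⟩ | ⟨rfl, -⟩ <;>
            exact hjS (by simp [e2])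
        · rcases h.inj l' l' (a' + 1) 0 (by omega) (by omega) (by rw [h.zero, e2]) with ⟨-, h'⟩ | ⟨h', -⟩ <;> omega
    rw [sum_image (fun l _ l' _ e => by
      rcases h.inj l l' 1 1 (h.pos l) (h.pos l') e with ⟨h', -⟩ | ⟨h', -⟩
      · exact h'
      · omega)] at e
    have : ∀ l, T.a c (f l 1) = T.w c := fun l => by
      have := (hns 0 l (h.pos l)).2
      rwa [h.zero l, zero_add] at this
    simp only [this, ← mul_sum] at e
    exact mul_left_cancel₀ (T.w_pos c).ne' (by linarith)
  have hc : ∀ l, T.m c = ((p l : ℤ) + 1) * T.m (f l (p l)) ∧ T.m (f l 1) = (p l : ℤ) * T.m (f l (p l)) := by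
    intro l
    obtain ⟨b, hb⟩ : ∃ b, p l = b + 1 := ⟨p l - 1, by have := h.pos l; omega⟩
    obtain ⟨e1, e2⟩ := harm l b (by omega)
    rw [show p l - b = 1 by omega] at e1
    rw [show p l - (b + 1) = 0 by omega, h.zero] at e2
    have hb' : (p l : ℤ) = b + 1 := by exact_mod_cast hb
    exact ⟨by rw [hb', e2]; ring, by rw [hb', e1]⟩
  have hsol : ((p 1 : ℤ) + 1) * (p 2 + 1) + (p 0 + 1) * (p 2 + 1) + (p 0 + 1) * (p 1 + 1) =
      (p 0 + 1) * (p 1 + 1) * (p 2 + 1) := by
    rw [Fin.sum_univ_three] at hcen
    obtain ⟨a0, b0⟩ := hc 0; obtain ⟨a1, b1⟩ := hc 1; obtain ⟨a2, b2⟩ := hc 2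
    refine mul_right_cancel₀ (T.m_pos c).ne' ?_
    rw [b0, b1, b2] at hcen
    linear_combination (-((((p 1 : ℤ) + 1) * (p 2 + 1)) * p 0)) * a0 + (-((((p 0 : ℤ) + 1) * (p 2 + 1)) * p 1)) * a1 +
      (-((((p 0 : ℤ) + 1) * (p 1 + 1)) * p 2)) * a2 + (-(((p 0 : ℤ) + 1) * (p 1 + 1) * (p 2 + 1))) * hcen
  have hsimple : ∀ l a, a < p l → 1 * T.w c ≤ T.a (f l a) (f l (a + 1)) ∧
      1 * T.w c ≤ T.a (f l (a + 1)) (f l a) := fun l a ha => by
    rw [T.symm.apply (f l a) (f l (a + 1)), (hns a l ha).2, hw l a (by omega), one_mul]; exact ⟨le_rfl, le_rfl⟩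
  -- the three exceptional stars
  have e6 : ∀ la lb lc : Fin 3, la ≠ lb → la ≠ lc → lb ≠ lc → p la = 2 → p lb = 2 → p lc = 2 → Classified T := by
    intro la lb lc hab hac hbc pa pb pc
    let v : ℕ → Fin n := fun i => if i = 0 then f la 2 else if i = 1 then f la 1 else if i = 2 then c
      else if i = 3 then f lb 2 else if i = 4 then f lb 1 else if i = 5 then f lc 2 else f lc 1
    obtain ⟨hn', hIs⟩ := satP h2 v 7 (fun i j hi hj e => by
        have := h.zero la
        simp only [v] at e
        split_ifs at e <;> first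
          | omega
          | (rw [← h.zero la] at e
             rcases h.inj _ _ _ _ (by omega) (by omega) e with ⟨e1, e2⟩ | ⟨e1, e2⟩ <;> first
              | omega | exact absurd e1 hab | exact absurd e1.symm hab | exact absurd e1 hac
              | exact absurd e1.symm hac | exact absurd e1 hbc | exact absurd e1.symm hbc)
          | (rcases h.inj _ _ _ _ (by omega) (by omega) e with ⟨e1, e2⟩ | ⟨e1, e2⟩ <;> first
              | omega | exact absurd e1 hab | exact absurd e1.symm hab | exact absurd e1 hac
              | exact absurd e1.symm hac | exact absurd e1 hbc | exact absurd e1.symm hbc))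
      mE6 (fun _ => 1) fE6 (T.w c) (T.w_pos c).le (fun a ha => by interval_cases a <;> decide)
      (a₁ := 0) (by omega) rfl
      (fun a ha => by interval_cases a <;> simp [v, hw, pa, pb, pc])
      (fun a b => by unfold fE6; split_ifs <;> norm_num)
      (fun a b hab' hb hf => by
        unfold fE6 at hf ⊢
        split_ifs at hf ⊢ with hmem
        · simp only [List.mem_cons, Prod.mk.injEq, List.not_mem_nil, or_false] at hmem
          rcases hmem with ⟨rfl, rfl⟩ | ⟨rfl, rfl⟩ | ⟨rfl, rfl⟩ | ⟨rfl, rfl⟩ | ⟨rfl, rfl⟩ | ⟨rfl, rfl⟩ <;>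
            simp only [v] <;> norm_num
          · simpa using (hsimple la 1 (by omega)).2
          · simpa [h.zero la] using (hsimple la 0 (by omega)).2
          · simpa [h.zero lb] using (hsimple lb 0 (by omega)).1
          · simpa [h.zero lc] using (hsimple lc 0 (by omega)).1
          · simpa using (hsimple lb 1 (by omega)).2
          · simpa using (hsimple lc 1 (by omega)).2
        · simp at hf)
      (fun a ha => ⟨(range 7).filter fun b => b ≠ a ∧ sym fE6 a b ≠ 0, fun b hb => by
        simp only [mem_filter, mem_range] at hb; exact ⟨hb.1, hb.2.1⟩, by interval_cases a <;> decide⟩)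
    exact .e6 hn'.symm hIs
  have e7 : ∀ la lb lc : Fin 3, la ≠ lb → la ≠ lc → lb ≠ lc → p la = 3 → p lb = 3 → p lc = 1 → Classified T := by
    intro la lb lc hab hac hbc pa pb pc
    let v : ℕ → Fin n := fun i => if i = 0 then f la 3 else if i = 1 then f la 2 else if i = 2 then f la 1
      else if i = 3 then c else if i = 4 then f lb 1 else if i = 5 then f lb 2 else if i = 6 then f lb 3 else f lc 1
    obtain ⟨hn', hIs⟩ := satP h2 v 8 (fun i j hi hj e => by
        simp only [v] at e
        split_ifs at e <;> first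
          | omega
          | (rw [← h.zero la] at e
             rcases h.inj _ _ _ _ (by omega) (by omega) e with ⟨e1, e2⟩ | ⟨e1, e2⟩ <;> first
              | omega | exact absurd e1 hab | exact absurd e1.symm hab | exact absurd e1 hac
              | exact absurd e1.symm hac | exact absurd e1 hbc | exact absurd e1.symm hbc)
          | (rcases h.inj _ _ _ _ (by omega) (by omega) e with ⟨e1, e2⟩ | ⟨e1, e2⟩ <;> first
              | omega | exact absurd e1 hab | exact absurd e1.symm hab | exact absurd e1 hac
              | exact absurd e1.symm hac | exact absurd e1 hbc | exact absurd e1.symm hbc))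
      mE7 (fun _ => 1) fE7 (T.w c) (T.w_pos c).le (fun a ha => by interval_cases a <;> decide)
      (a₁ := 0) (by omega) rfl
      (fun a ha => by interval_cases a <;> simp [v, hw, pa, pb, pc])
      (fun a b => by unfold fE7; split_ifs <;> norm_num)
      (fun a b hab' hb hf => by
        unfold fE7 at hf ⊢
        split_ifs at hf ⊢ with hmem
        · simp only [List.mem_cons, Prod.mk.injEq, List.not_mem_nil, or_false] at hmem
          rcases hmem with ⟨rfl, rfl⟩ | ⟨rfl, rfl⟩ | ⟨rfl, rfl⟩ | ⟨rfl, rfl⟩ | ⟨rfl, rfl⟩ | ⟨rfl, rfl⟩ |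
            ⟨rfl, rfl⟩ <;> simp only [v] <;> norm_num
          · simpa using (hsimple la 2 (by omega)).2
          · simpa using (hsimple la 1 (by omega)).2
          · simpa [h.zero la] using (hsimple la 0 (by omega)).2
          · simpa [h.zero lb] using (hsimple lb 0 (by omega)).1
          · simpa [h.zero lc] using (hsimple lc 0 (by omega)).1
          · simpa using (hsimple lb 1 (by omega)).1
          · simpa using (hsimple lb 2 (by omega)).1
        · simp at hf)
      (fun a ha => ⟨(range 8).filter fun b => b ≠ a ∧ sym fE7 a b ≠ 0, fun b hb => by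
        simp only [mem_filter, mem_range] at hb; exact ⟨hb.1, hb.2.1⟩, by interval_cases a <;> decide⟩)
    exact .e7 hn'.symm hIs
  have e8 : ∀ la lb lc : Fin 3, la ≠ lb → la ≠ lc → lb ≠ lc → p la = 5 → p lb = 2 → p lc = 1 → Classified T := by
    intro la lb lc hab hac hbc pa pb pc
    let v : ℕ → Fin n := fun i => if i = 0 then f la 5 else if i = 1 then f la 4 else if i = 2 then f la 3
      else if i = 3 then f la 2 else if i = 4 then f la 1 else if i = 5 then c else if i = 6 then f lb 1
      else if i = 7 then f lb 2 else f lc 1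
    obtain ⟨hn', hIs⟩ := satP h2 v 9 (fun i j hi hj e => by
        simp only [v] at e
        split_ifs at e <;> first
          | omega
          | (rw [← h.zero la] at e
             rcases h.inj _ _ _ _ (by omega) (by omega) e with ⟨e1, e2⟩ | ⟨e1, e2⟩ <;> first
              | omega | exact absurd e1 hab | exact absurd e1.symm hab | exact absurd e1 hac
              | exact absurd e1.symm hac | exact absurd e1 hbc | exact absurd e1.symm hbc)
          | (rcases h.inj _ _ _ _ (by omega) (by omega) e with ⟨e1, e2⟩ | ⟨e1, e2⟩ <;> first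
              | omega | exact absurd e1 hab | exact absurd e1.symm hab | exact absurd e1 hac
              | exact absurd e1.symm hac | exact absurd e1 hbc | exact absurd e1.symm hbc))
      mE8 (fun _ => 1) fE8 (T.w c) (T.w_pos c).le (fun a ha => by interval_cases a <;> decide)
      (a₁ := 0) (by omega) rfl
      (fun a ha => by interval_cases a <;> simp [v, hw, pa, pb, pc])
      (fun a b => by unfold fE8; split_ifs <;> norm_num)
      (fun a b hab' hb hf => by
        unfold fE8 at hf ⊢
        split_ifs at hf ⊢ with hmem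
        · simp only [List.mem_cons, Prod.mk.injEq, List.not_mem_nil, or_false] at hmem
          rcases hmem with ⟨rfl, rfl⟩ | ⟨rfl, rfl⟩ | ⟨rfl, rfl⟩ | ⟨rfl, rfl⟩ | ⟨rfl, rfl⟩ | ⟨rfl, rfl⟩ |
            ⟨rfl, rfl⟩ | ⟨rfl, rfl⟩ <;> simp only [v] <;> norm_num
          · simpa using (hsimple la 4 (by omega)).2
          · simpa using (hsimple la 3 (by omega)).2
          · simpa using (hsimple la 2 (by omega)).2
          · simpa using (hsimple la 1 (by omega)).2
          · simpa [h.zero la] using (hsimple la 0 (by omega)).2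
          · simpa [h.zero lb] using (hsimple lb 0 (by omega)).1
          · simpa [h.zero lc] using (hsimple lc 0 (by omega)).1
          · simpa using (hsimple lb 1 (by omega)).1
        · simp at hf)
      (fun a ha => ⟨(range 9).filter fun b => b ≠ a ∧ sym fE8 a b ≠ 0, fun b hb => by
        simp only [mem_filter, mem_range] at hb; exact ⟨hb.1, hb.2.1⟩, by interval_cases a <;> decide⟩)
    exact .e8 hn'.symm hIs
  have key : ∀ la lb lc : Fin 3, la ≠ lb → la ≠ lc → lb ≠ lc → p lc ≤ p lb → p lb ≤ p la →
      ((p lb : ℤ) + 1) * (p lc + 1) + (p la + 1) * (p lc + 1) + (p la + 1) * (p lb + 1) =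
        (p la + 1) * (p lb + 1) * (p lc + 1) → Classified T := by
    intro la lb lc hab hac hbc h1 h3 e
    have hp := h.pos lc
    have hc3 : p lc ≤ 2 := by
      by_contra hgt
      push Not at hgt
      have z1 : (3 : ℤ) ≤ p lc := by exact_mod_cast hgt
      have z2 : (p lc : ℤ) ≤ p lb := by exact_mod_cast h1
      have z3 : (p lb : ℤ) ≤ p la := by exact_mod_cast h3
      nlinarith [mul_le_mul_of_nonneg_left (show (4 : ℤ) ≤ p lc + 1 by linarith)
          (show (0 : ℤ) ≤ (p la + 1) * (p lb + 1) by positivity),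
        mul_le_mul_of_nonneg_left (show (p lc : ℤ) + 1 ≤ p lb + 1 by linarith) (show (0 : ℤ) ≤ p la + 1 by linarith),
        mul_le_mul_of_nonneg_right (show (p lb : ℤ) + 1 ≤ p la + 1 by linarith) (show (0 : ℤ) ≤ p lc + 1 by linarith),
        mul_pos (show (0 : ℤ) < p la + 1 by linarith) (show (0 : ℤ) < p lb + 1 by linarith)]
    have hb3 : p lb ≤ 3 := by
      by_contra hgt
      push Not at hgt
      have z1 : (4 : ℤ) ≤ p lb := by exact_mod_cast hgt
      have z3 : (p lb : ℤ) ≤ p la := by exact_mod_cast h3
      interval_cases hq : p lc <;> push_cast at e <;> nlinarith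
    interval_cases hq : p lc <;> interval_cases hq' : p lb <;> push_cast at e <;> first
      | omega
      | exact e8 la lb lc hab hac hbc (by omega) (by omega) (by omega)
      | exact e7 la lb lc hab hac hbc (by omega) (by omega) (by omega)
      | exact e6 la lb lc hab hac hbc (by omega) (by omega) (by omega)
  rcases le_total (p 0) (p 1) with h01 | h01 <;> rcases le_total (p 1) (p 2) with h12 | h12 <;>
    rcases le_total (p 0) (p 2) with h02 | h02
  all_goals first
    | exact key 2 1 0 (by decide) (by decide) (by decide) (by omega) (by omega) (by linear_combination hsol)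
    | exact key 2 0 1 (by decide) (by decide) (by decide) (by omega) (by omega) (by linear_combination hsol)
    | exact key 1 2 0 (by decide) (by decide) (by decide) (by omega) (by omega) (by linear_combination hsol)
    | exact key 1 0 2 (by decide) (by decide) (by decide) (by omega) (by omega) (by linear_combination hsol)
    | exact key 0 2 1 (by decide) (by decide) (by decide) (by omega) (by omega) (by linear_combination hsol)
    | exact key 0 1 2 (by decide) (by decide) (by decide) (by omega) (by omega) (by linear_combination hsol)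

/-- A path with at most the first edge multiple carries no null vector. -/
theorem of_single (h2 : ∀ i, T.IsMinusTwo i) (hn : 2 < n) {u : ℕ → Fin n} (h : IsP T u n)
    (hzero : ∀ a b, a + 1 < b → b < n → T.a (u a) (u b) = 0) (hsurj : ∀ i, ∃ a < n, u a = i) {k : ℕ} (hk : k = 0)
    (hs : ∀ a, a + 1 < n → a ≠ k → Simple T (u a) (u (a + 1)))
    (hd : Simple T (u 0) (u 1) ∨ Double T (u 0) (u 1) ∨ Double T (u 1) (u 0)) : False := by
  subst hk
  have hne : ∀ a b, a ≠ b → a < n → b < n → u a ≠ u b := fun a b hab ha hb e => hab (h.inj a b ha hb e)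
  have hz : ∀ a b, a < n → b < n → a ≠ b → b ≠ a + 1 → a ≠ b + 1 → T.a (u a) (u b) = 0 := fun a b ha hb h1 h3 h4 => by
    rcases lt_or_gt_of_ne h1 with hl | hl
    · exact hzero a b (by omega) hb
    · rw [T.symm.apply]; exact hzero b a (by omega) ha
  have hw : ∀ a, 1 ≤ a → a < n → T.w (u a) = T.w (u 1) := fun a => by
    induction a with
    | zero => omega
    | succ a ih =>
      intro _ ha
      rcases a.eq_zero_or_pos with rfl | h1
      · rfl
      · exact (hs a ha (by omega)).1.symm.trans (ih h1 (by omega))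
  -- the multiplicities on the simple part
  have harm : ∀ j, j + 2 < n → T.m (u (n - 1 - j)) = (j + 1) * T.m (u (n - 1)) ∧
      T.m (u (n - 1 - (j + 1))) = (j + 2) * T.m (u (n - 1)) := by
    intro j
    induction j with
    | zero =>
      intro hj
      refine ⟨by simp, ?_⟩
      obtain ⟨b, rfl⟩ : ∃ b, n = b + 2 := ⟨n - 2, by omega⟩
      have e := row h2 (u (b + 1)) {u b} (by simpa using hne (b + 1) b (by omega) (by omega) (by omega))
        fun j hj hjS => by
          obtain ⟨a, ha, rfl⟩ := hsurj j
          refine hz _ _ (by omega) ha (fun e => hj (by rw [e])) (by omega) fun e => hjS ?_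
          rw [show a = b by omega]; simp
      have hsb := hs b (by omega) (by omega)
      rw [sum_singleton, T.symm.apply, hsb.2, hw b (by omega) (by omega), hw (b + 1) (by omega) (by omega)] at e
      rw [show b + 2 - 1 - (0 + 1) = b by omega, show b + 2 - 1 = b + 1 by omega]
      refine mul_left_cancel₀ (T.w_pos (u 1)).ne' ?_
      push_cast
      linarith
    | succ j ih =>
      intro hj
      obtain ⟨e1, e2⟩ := ih (by omega)
      refine ⟨by push_cast; linarith [e2], ?_⟩
      obtain ⟨b, hb⟩ : ∃ b, n - 1 - (j + 1) = b + 1 := ⟨n - 1 - (j + 1) - 1, by omega⟩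
      have e := row h2 (u (b + 1)) {u b, u (b + 1 + 1)}
        (by simp only [mem_insert, mem_singleton, not_or]
            exact ⟨hne _ _ (by omega) (by omega) (by omega), hne _ _ (by omega) (by omega) (by omega)⟩)
        fun j' hj' hjS => by
          obtain ⟨a, ha, rfl⟩ := hsurj j'
          simp only [mem_insert, mem_singleton, not_or] at hjS
          exact hz _ _ (by omega) ha (fun e => hj' (by rw [e])) (fun e => hjS.2 (by rw [e]))
            (fun e => hjS.1 (by rw [show a = b by omega]))
      rw [sum_pair (hne _ _ (by omega) (by omega) (by omega)), T.symm.apply] at e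
      rcases b.eq_zero_or_pos with hb0 | hb0
      · exfalso; omega
      rw [(hs b (by omega) (by omega)).2, (hs (b + 1) (by omega) (by omega)).2, hw b hb0 (by omega),
        hw (b + 1) (by omega) (by omega)] at e
      rw [hb] at e2
      rw [show n - 1 - j = b + 1 + 1 by omega] at e1
      rw [show n - 1 - (j + 1 + 1) = b by omega]
      refine mul_left_cancel₀ (T.w_pos (u 1)).ne' ?_
      rw [e1, e2] at e
      push_cast
      linarith
  obtain ⟨e2', e1'⟩ := harm (n - 3) (by omega)
  rw [show n - 1 - (n - 3) = 2 by omega] at e2'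
  rw [show n - 1 - (n - 3 + 1) = 1 by omega] at e1'
  have hn3 : ((n - 3 : ℕ) : ℤ) = n - 3 := by omega
  rw [hn3] at e1' e2'
  have r0 := row h2 (u 0) {u 1} (by simpa using hne 0 1 (by omega) (by omega) (by omega)) fun j hj hjS => by
    obtain ⟨a, ha, rfl⟩ := hsurj j
    exact hz _ _ (by omega) ha (fun e => hj (by rw [e])) (fun e => hjS (by rw [e]; simp)) (by omega)
  have r1 := row h2 (u 1) {u 0, u 2}
    (by simp only [mem_insert, mem_singleton, not_or]
        exact ⟨hne _ _ (by omega) (by omega) (by omega), hne _ _ (by omega) (by omega) (by omega)⟩)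
    fun j hj hjS => by
      obtain ⟨a, ha, rfl⟩ := hsurj j
      simp only [mem_insert, mem_singleton, not_or] at hjS
      exact hz _ _ (by omega) ha (fun e => hj (by rw [e])) (fun e => hjS.2 (by rw [e]))
        (fun e => hjS.1 (by rw [show a = 0 by omega]))
  rw [sum_singleton] at r0
  rw [sum_pair (hne _ _ (by omega) (by omega) (by omega)), T.symm.apply (u 0) (u 1),
    show T.a (u 1) (u 2) = T.w (u 1) from (hs 1 (by omega) (by omega)).2] at r1
  have hw0 := T.w_pos (u 0); have hw1 := T.w_pos (u 1); have hm := T.m_pos (u (n - 1))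
  have hnz : (3 : ℤ) ≤ n := by exact_mod_cast hn
  rcases hd with ⟨h3, h4⟩ | ⟨h3, h4⟩ | ⟨h3, h4⟩
  · rw [h4] at r0 r1; rw [← h3] at r1
    have q0 : T.m (u 1) = 2 * T.m (u 0) := mul_left_cancel₀ hw0.ne' (by linarith)
    have q1 : T.m (u 0) + T.m (u 2) = 2 * T.m (u 1) := mul_left_cancel₀ hw0.ne' (by linarith)
    nlinarith
  · rw [h4] at r0 r1; rw [h3] at r0
    have q0 : T.m (u 1) = T.m (u 0) := mul_left_cancel₀ hw0.ne' (by linarith)
    have q1 : T.m (u 0) + T.m (u 2) = 2 * T.m (u 1) := mul_left_cancel₀ hw1.ne' (by linarith)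
    nlinarith
  · rw [T.symm.apply] at h4
    rw [h4] at r0 r1; rw [h3] at r1
    have q0 : T.m (u 1) = 2 * T.m (u 0) := mul_left_cancel₀ hw0.ne' (by linarith)
    have q1 : 2 * T.m (u 0) + T.m (u 2) = 2 * T.m (u 1) := mul_left_cancel₀ hw1.ne' (by linarith)
    nlinarith

/-- The path of finite type `F₄`. -/
theorem no_middle (h2 : ∀ i, T.IsMinusTwo i) (hn : n = 4) {u : ℕ → Fin n} (h : IsP T u n)
    (hzero : ∀ a b, a + 1 < b → b < n → T.a (u a) (u b) = 0) (hsurj : ∀ i, ∃ a < n, u a = i)
    (s0 : Simple T (u 0) (u 1)) (s2 : Simple T (u 2) (u 3))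
    (hd : Double T (u 1) (u 2) ∨ Double T (u 2) (u 1)) : False := by
  have hne : ∀ a b, a ≠ b → a < n → b < n → u a ≠ u b := fun a b hab ha hb e => hab (h.inj a b ha hb e)
  have r0 := row h2 (u 0) {u 1} (by simpa using hne 0 1 (by omega) (by omega) (by omega)) fun j hj hjS => by
    obtain ⟨a, ha, rfl⟩ := hsurj j
    exact hzero 0 a (by
      rcases (show a = 0 ∨ a = 1 ∨ 1 < a by omega) with rfl | rfl | h' <;>
        first | omega | exact absurd rfl hj | simp at hjS) ha
  have r3 := row h2 (u 3) {u 2} (by simpa using hne 3 2 (by omega) (by omega) (by omega)) fun j hj hjS => by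
    obtain ⟨a, ha, rfl⟩ := hsurj j
    rw [T.symm.apply]
    exact hzero a 3 (by
      rcases (show a = 3 ∨ a = 2 ∨ a + 1 < 3 by omega) with rfl | rfl | h' <;>
        first | omega | exact absurd rfl hj | simp at hjS) (by omega)
  have r1 := row h2 (u 1) {u 0, u 2}
    (by simp only [mem_insert, mem_singleton, not_or]
        exact ⟨hne _ _ (by omega) (by omega) (by omega), hne _ _ (by omega) (by omega) (by omega)⟩)
    fun j hj hjS => by
      obtain ⟨a, ha, rfl⟩ := hsurj j
      rcases (show a = 0 ∨ a = 1 ∨ a = 2 ∨ a = 3 by omega) with rfl | rfl | rfl | rfl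
      · simp at hjS
      · exact absurd rfl hj
      · simp at hjS
      · exact hzero 1 3 (by omega) (by omega)
  have r2 := row h2 (u 2) {u 1, u 3}
    (by simp only [mem_insert, mem_singleton, not_or]
        exact ⟨hne _ _ (by omega) (by omega) (by omega), hne _ _ (by omega) (by omega) (by omega)⟩)
    fun j hj hjS => by
      obtain ⟨a, ha, rfl⟩ := hsurj j
      rcases (show a = 0 ∨ a = 1 ∨ a = 2 ∨ a = 3 by omega) with rfl | rfl | rfl | rfl
      · rw [T.symm.apply]; exact hzero 0 2 (by omega) (by omega)
      · simp at hjS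
      · exact absurd rfl hj
      · simp at hjS
  rw [sum_singleton] at r0 r3
  rw [sum_pair (hne _ _ (by omega) (by omega) (by omega))] at r1 r2
  rw [T.symm.apply (u 0) (u 1)] at r1
  rw [T.symm.apply (u 2) (u 3)] at r3
  rw [T.symm.apply (u 1) (u 2)] at r2
  rw [s0.2] at r0 r1
  rw [s2.2] at r2 r3
  rw [← s0.1] at r1
  rw [← s2.1] at r3
  have hw0 := T.w_pos (u 0); have hw2 := T.w_pos (u 2)
  have hm0 := T.m_pos (u 0); have hm3 := T.m_pos (u 3)
  have q0 : T.m (u 1) = 2 * T.m (u 0) := mul_left_cancel₀ hw0.ne' (by linarith)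
  have q3 : T.m (u 2) = 2 * T.m (u 3) := mul_left_cancel₀ hw2.ne' (by linarith)
  have hs := T.symm.apply (u 1) (u 2)
  unfold Double at hd
  rw [← s0.1] at hd
  rcases hd with ⟨h3, h4⟩ | ⟨h3, h4⟩
  · rw [h4, h3] at r1 r2
    have q1 : T.m (u 0) + 2 * T.m (u 2) = 2 * T.m (u 1) := mul_left_cancel₀ hw0.ne' (by linarith)
    have q2 : T.m (u 1) + T.m (u 3) = 2 * T.m (u 2) := mul_left_cancel₀ hw0.ne' (by linarith)
    omega
  · rw [hs] at h4
    rw [h4, h3] at r1
    rw [h4, h3] at r2
    have q1 : T.m (u 0) + T.m (u 2) = 2 * T.m (u 1) := mul_left_cancel₀ hw2.ne' (by linarith)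
    have q2 : 2 * T.m (u 1) + T.m (u 3) = 2 * T.m (u 2) := mul_left_cancel₀ hw2.ne' (by linarith)
    omega

/-- The graph is a path. -/
theorem of_path (h2 : ∀ i, T.IsMinusTwo i) (hn : 2 < n) {u : ℕ → Fin n} (h : IsP T u n)
    (hzero : ∀ a b, a + 1 < b → b < n → T.a (u a) (u b) = 0) : Classified T := by
  classical
  have hne : ∀ a b, a < b → b < n → u a ≠ u b := fun a b hab hb e => by
    have := h.inj a b (by omega) hb e; omega
  have hsurj : ∀ i, ∃ a < n, u a = i := by
    intro i
    have := (Finite.injective_iff_bijective (f := fun a : Fin n => u a)).1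
      fun a b e => Fin.ext (h.inj a b a.2 b.2 e)
    obtain ⟨a, rfl⟩ := this.2 i
    exact ⟨a, a.2, rfl⟩
  by_cases htri : ∃ k, k + 1 < n ∧ (Triple T (u k) (u (k + 1)) ∨ Triple T (u (k + 1)) (u k))
  · obtain ⟨k, hk, ht⟩ := htri
    rcases k.eq_zero_or_pos with rfl | hk0
    · exact of_triple h2 (u 2) (u 1) (u 0) (hne 1 2 (by omega) (by omega)).symm (hne 0 2 (by omega) (by omega)).symm
        (hne 0 1 (by omega) (by omega)).symm (sym0 (h.edge 1 (by omega))) ht.symm
    · refine of_triple h2 (u (k - 1)) (u k) (u (k + 1)) (hne _ _ (by omega) (by omega))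
        (hne _ _ (by omega) hk) (hne _ _ (by omega) hk) ?_ ht
      have := h.edge (k - 1) (by omega)
      rwa [show k - 1 + 1 = k by omega] at this
  push Not at htri
  have hkind : ∀ a, a + 1 < n → Simple T (u a) (u (a + 1)) ∨ Double T (u a) (u (a + 1)) ∨ Double T (u (a + 1)) (u a) :=
    fun a ha => by
      have := htri a ha
      rcases kind h2 hn (hne a (a + 1) (by omega) ha) (h.edge a ha) with h' | h' | h' | h' | h' <;> tauto
  by_cases hns : ∃ k, k + 1 < n ∧ ¬ Simple T (u k) (u (k + 1))
  swap
  · push Not at hns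
    have := of_single h2 hn h hzero hsurj (k := 0) (by omega) (fun a ha _ => hns a ha) (hkind 0 (by omega))
    exact this.elim
  · obtain ⟨hk, hks⟩ := Nat.find_spec hns
    set k := Nat.find hns with hkdef
    have hlow : ∀ a < k, Simple T (u a) (u (a + 1)) := fun a ha => by
      by_contra hh; exact Nat.find_min hns ha ⟨by omega, hh⟩
    have hd : Double T (u k) (u (k + 1)) ∨ Double T (u (k + 1)) (u k) := (hkind k hk).resolve_left hks
    by_cases hns2 : ∃ l, k < l ∧ l + 1 < n ∧ ¬ Simple T (u l) (u (l + 1))
    · obtain ⟨hkl, hl, hls⟩ := Nat.find_spec hns2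
      set l := Nat.find hns2
      refine of_two_double h2 (fun i => u (k + i)) (l - k + 2) (by omega)
        (fun i j hi hj e => by have := h.inj _ _ (by omega) (by omega) e; omega)
        (fun a h1 h3 => ?_) hd ?_
      · by_contra hh
        exact Nat.find_min hns2 (m := k + a) (by omega) ⟨by omega, by omega, hh⟩
      · have := (hkind l hl).resolve_left hls
        rw [show k + (l - k + 2 - 2) = l by omega, show k + (l - k + 2 - 1) = l + 1 by omega]
        exact this
    push Not at hns2
    have hs : ∀ a, a + 1 < n → a ≠ k → Simple T (u a) (u (a + 1)) := fun a ha hak => by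
      rcases lt_or_gt_of_ne hak with h' | h'
      · exact hlow a h'
      · exact hns2 a h' ha
    rcases (show (2 ≤ k ∧ k + 3 ≤ n) ∨ (1 ≤ k ∧ k + 4 ≤ n) ∨ k = 0 ∨ k + 2 = n ∨ (k = 1 ∧ n = 4) by omega) with
      ⟨h1, h3⟩ | ⟨h1, h3⟩ | h' | h' | ⟨h1, h3⟩
    · refine of_inner_double h2 (fun i => u (k - 2 + i))
        (fun i j hi hj e => by have := h.inj _ _ (by omega) (by omega) e; omega) ?_ ?_ ?_ ?_
      · exact hs (k - 2) (by omega) (by omega)
      · exact hs (k - 2 + 1) (by omega) (by omega)
      · exact hs (k - 2 + 3) (by omega) (by omega)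
      · rwa [show k - 2 + 2 = k by omega, show k - 2 + 3 = k + 1 by omega]
    · refine of_inner_double h2 (fun i => u (k + 3 - i))
        (fun i j hi hj e => by have := h.inj _ _ (by omega) (by omega) e; omega) ?_ ?_ ?_ ?_
      · have := (hs (k + 2) (by omega) (by omega)).symm
        simpa using this
      · have := (hs (k + 1) (by omega) (by omega)).symm
        simpa using this
      · have := (hs (k - 1) (by omega) (by omega)).symm
        rw [show k - 1 + 1 = k by omega] at this
        rwa [show k + 3 - 3 = k by omega, show k + 3 - 4 = k - 1 by omega]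
      · rw [show k + 3 - 2 = k + 1 by omega, show k + 3 - 3 = k by omega]; exact hd.symm
    · rw [h'] at hd hs
      exact (of_single h2 hn h hzero hsurj (k := 0) (by omega) (fun a ha hne => hs a ha hne) (Or.inr hd)).elim
    · refine (of_single h2 hn (u := fun a => u (n - 1 - a)) ⟨fun a b ha hb e => ?_, fun a ha => ?_⟩
        (fun a b hab hb => ?_) (fun i => ?_) (k := 0) (by omega) (fun a ha hne => ?_) (Or.inr ?_)).elim
      · have := h.inj _ _ (by omega) (by omega) e; omega
      · have := sym0 (h.edge (n - 1 - (a + 1)) (by omega))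
        rwa [show n - 1 - (a + 1) + 1 = n - 1 - a by omega] at this
      · rw [T.symm.apply]; exact hzero _ _ (by omega) (by omega)
      · obtain ⟨a, ha, rfl⟩ := hsurj i
        exact ⟨n - 1 - a, by omega, by rw [show n - 1 - (n - 1 - a) = a by omega]⟩
      · have := (hs (n - 1 - (a + 1)) (by omega) (by omega)).symm
        rwa [show n - 1 - (a + 1) + 1 = n - 1 - a by omega] at this
      · rw [show n - 1 - 0 = k + 1 by omega, show n - 1 - 1 = k by omega]; exact hd.symm
    · rw [h1] at hd
      exact (no_middle h2 h3 h hzero hsurj (hs 0 (by omega) (by omega)) (hs 2 (by omega) (by omega)) hd).elim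

/-- The classification. -/
theorem classify (T : NumericalType n) (hn : 2 < n) (hmin : T.IsMinimal) (hg : T.genus = 1) : Classified T := by
  classical
  have h2 : ∀ i, T.IsMinusTwo i := all_minusTwo T hmin (by omega) hg
  obtain ⟨j₀, hj₀, hpos⟩ := exists_nbr T (by omega) ⟨0, by omega⟩
  obtain ⟨t, ⟨u, hu⟩, ht, hmax⟩ := exists_max (n := n) (P := fun t => ∃ u, IsP T u t) (k := 2)
    ⟨fun a => if a = 0 then ⟨0, by omega⟩ else j₀, fun a b ha hb e => by
      interval_cases a <;> interval_cases b <;> first | rfl | (simp at e; first | exact absurd e hj₀ | exact absurd e.symm hj₀),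
      fun a ha => by obtain rfl : a = 0 := by omega
                     simpa using hpos.ne'⟩
    (fun s ⟨v, hv⟩ => hv.le)
  by_cases hch : ∃ a b, a + 1 < b ∧ b < t ∧ T.a (u a) (u b) ≠ 0
  · obtain ⟨a, b, hab, hb, h0⟩ := hch
    exact of_chord h2 hu hab hb h0
  push Not at hch
  let Off : Fin n → Prop := fun x => ∀ a < t, u a ≠ x
  by_cases hoff : ∃ x, Off x
  swap
  · push Not at hoff
    have htn : t = n := le_antisymm hu.le (by
      have : (univ : Finset (Fin n)) ⊆ (range t).image u := fun i _ => by
        obtain ⟨a, ha, e⟩ := by simpa [Off] using hoff i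
        exact mem_image.2 ⟨a, mem_range.2 ha, e⟩
      simpa using (card_le_card this).trans card_image_le)
    subst htn
    exact of_path h2 hn hu hch
  -- a vertex attached to the path
  obtain ⟨x, hx, k, hk, hxk⟩ : ∃ x, Off x ∧ ∃ k < t, T.a (u k) x ≠ 0 := by
    obtain ⟨y, hy⟩ := hoff
    obtain ⟨i, hi, j, hj, h0⟩ := T.connected ((range t).image u) ⟨u 0, mem_image.2 ⟨0, mem_range.2 (by omega), rfl⟩⟩
      (fun e => by
        obtain ⟨a, ha, ha'⟩ := mem_image.1 (e ▸ mem_univ y)
        exact hy a (mem_range.1 ha) ha')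
    obtain ⟨a, ha, rfl⟩ := mem_image.1 hi
    exact ⟨j, fun b hb e => hj (mem_image.2 ⟨b, mem_range.2 hb, e⟩), a, mem_range.1 ha, h0⟩
  have hends : ∀ y, Off y → ∀ a < t, T.a (u a) y ≠ 0 → 1 ≤ a ∧ a + 1 < t := by
    intro y hy a ha h0
    refine ⟨?_, ?_⟩
    · by_contra hcon
      obtain rfl : a = 0 := by omega
      have := hmax (t + 1) ⟨fun i => if i = 0 then y else u (i - 1), fun i j hi hj e => by
        split_ifs at e with hi0 hj0 hj0
        · omega
        · exact absurd e.symm (hy _ (by omega))
        · exact absurd e (hy _ (by omega))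
        · have := hu.inj _ _ (by omega) (by omega) e; omega, fun i hi => by
        rcases i.eq_zero_or_pos with rfl | hi0
        · simpa using sym0 h0
        · simp only [if_neg (show i ≠ 0 by omega), if_neg (show i + 1 ≠ 0 by omega)]
          have := hu.edge (i - 1) (by omega)
          rwa [show i - 1 + 1 = i + 1 - 1 by omega] at this⟩
      omega
    · by_contra hcon
      obtain rfl : a = t - 1 := by omega
      have := hmax (t + 1) ⟨fun i => if i < t then u i else y, fun i j hi hj e => by
        split_ifs at e with hi0 hj0 hj0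
        · exact hu.inj _ _ hi0 hj0 e
        · exact absurd e (hy _ hi0)
        · exact absurd e.symm (hy _ (by assumption))
        · omega, fun i hi => by
        rcases (show i + 1 < t ∨ i + 1 = t by omega) with h' | h'
        · simp only [if_pos (show i < t by omega), if_pos h']
          exact hu.edge i h'
        · simp only [if_pos (show i < t by omega), if_neg (show ¬ i + 1 < t by omega)]
          rwa [show i = t - 1 by omega]⟩
      omega
  obtain ⟨hk1, hk2⟩ := hends x hx k hk hxk
  by_cases hsecond : ∃ y, Off y ∧ y ≠ x ∧ ∃ l < t, T.a (u l) y ≠ 0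
  · obtain ⟨y, hy, hyx, l, hl, hyl⟩ := hsecond
    obtain ⟨hl1, hl2⟩ := hends y hy l hl hyl
    rcases le_total k l with h' | h'
    · exact of_two_branches h2 hu hk1 h' hl2 hyx.symm hx hy hxk hyl
    · exact of_two_branches h2 hu hl1 h' hk2 hyx hy hx hyl hxk
  push Not at hsecond
  by_cases hx2 : ∃ l < t, l ≠ k ∧ T.a (u l) x ≠ 0
  · obtain ⟨l, hl, hlk, hxl⟩ := hx2
    rcases lt_or_gt_of_ne hlk with h' | h'
    · exact of_two_attach h2 hu h' hk hx hxl hxk
    · exact of_two_attach h2 hu h' hl hx hxk hxl
  push Not at hx2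
  -- the arm hanging from `x`
  obtain ⟨s, ⟨z, hz, hz0, hzoff⟩, hs1, hsmax⟩ := exists_max (n := n)
    (P := fun s => ∃ z, IsP T z s ∧ z 0 = x ∧ ∀ i < s, Off (z i)) (k := 1)
    ⟨fun _ => x, ⟨fun a b ha hb _ => by omega, fun a ha => by omega⟩, rfl, fun _ _ => hx⟩
    (fun s ⟨v, hv, _⟩ => hv.le)
  by_cases hzch : ∃ a b, a + 1 < b ∧ b < s ∧ T.a (z a) (z b) ≠ 0
  · obtain ⟨a, b, hab, hb, h0⟩ := hzch
    exact of_chord h2 hz hab hb h0
  push Not at hzch
  by_cases hq : ∃ q, Off q ∧ (∀ i < s, z i ≠ q) ∧ ∃ j < s, T.a (z j) q ≠ 0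
  · obtain ⟨q, hqoff, hqz, j, hj, hjq⟩ := hq
    have hj1 : j + 1 < s := by
      by_contra hcon
      have := hsmax (s + 1) ⟨fun i => if i < s then z i else q, ⟨fun a b ha hb e => by
        split_ifs at e with ha0 hb0 hb0
        · exact hz.inj _ _ ha0 hb0 e
        · exact absurd e (hqz _ ha0)
        · exact absurd e.symm (hqz _ (by assumption))
        · omega, fun a ha => by
        rcases (show a + 1 < s ∨ a + 1 = s by omega) with h' | h'
        · simp only [if_pos (show a < s by omega), if_pos h']
          exact hz.edge a h'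
        · simp only [if_pos (show a < s by omega), if_neg (show ¬ a + 1 < s by omega)]
          rwa [show a = j by omega]⟩, by simp only [if_pos (show 0 < s by omega)]; exact hz0, fun i hi => by
        by_cases h' : i < s
        · simp only [if_pos h']; exact hzoff i h'
        · simp only [if_neg h']; exact hqoff⟩
      omega
    let v : ℕ → Fin n := fun i => if i = 0 then q else if i = 1 then z (j + 1) else if i ≤ j + 2 then z (j + 2 - i)
      else if i = j + 3 then u k else if i = j + 4 then u (k - 1) else u (k + 1)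
    refine of_two_branch h2 v (j + 6) (by omega) (fun a b ha hb e => ?_) (fun a b hab hb he => ?_)
    · simp only [v] at e
      split_ifs at e <;> first
        | omega
        | exact absurd e.symm (hqz _ (by omega))
        | exact absurd e (hqz _ (by omega))
        | exact absurd e.symm (hqoff _ (by omega))
        | exact absurd e (hqoff _ (by omega))
        | exact absurd e.symm (hzoff _ (by omega) _ (by omega))
        | exact absurd e (hzoff _ (by omega) _ (by omega))
        | (have := hz.inj _ _ (by omega) (by omega) e; omega)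
        | (have := hu.inj _ _ (by omega) (by omega) e; omega)
    · have hmid : ∀ i, 2 ≤ i → i ≤ j + 2 → v i = z (j + 2 - i) := fun i h1 h3 => by
        simp only [v]; rw [if_neg (by omega), if_neg (by omega), if_pos h3]
      have hc : v (j + 3) = u k := by
        simp only [v]; split_ifs <;> first | omega | contradiction | rfl
      rcases he with ⟨ha, rfl⟩ | ⟨rfl, ha, hb'⟩ | ⟨ha, hb'⟩
      · rw [hmid 2 le_rfl (by omega), Nat.add_sub_cancel]
        rcases (show a = 0 ∨ a = 1 by omega) with rfl | rfl
        · simpa [v] using sym0 hjq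
        · simpa [v] using sym0 (hz.edge j hj1)
      · rcases (show a + 1 ≤ j + 2 ∨ a = j + 2 ∨ a = j + 3 by omega) with h' | h' | h'
        · rw [hmid a ha (by omega), hmid (a + 1) (by omega) h', show j + 2 - a = j + 2 - (a + 1) + 1 by omega]
          exact sym0 (hz.edge _ (by omega))
        · rw [hmid a ha (by omega), show a + 1 = j + 3 by omega, hc, show j + 2 - a = 0 by omega, hz0]
          exact sym0 hxk
        · rw [h', hc]
          have := sym0 (hu.edge (k - 1) (by omega))
          rw [show k - 1 + 1 = k by omega] at this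
          simp only [v]; split_ifs <;> first | omega | contradiction | assumption
      · rw [show a = j + 3 by omega, hc]
        have := hu.edge k hk2
        simp only [v]; split_ifs <;> first | omega | contradiction | assumption
  push Not at hq
  -- the graph is a star
  let f : Fin 3 → ℕ → Fin n :=
    ![fun i => u (k - i), fun i => u (k + i), fun i => if i = 0 then u k else z (i - 1)]
  let p : Fin 3 → ℕ := ![k, t - 1 - k, s]
  have hstar : IsStar T f p (u k) := by
    refine ⟨fun l => ?_, fun l => ?_, fun l l' a b ha hb e => ?_, fun l a ha => ?_, fun i j hij h0 => ?_⟩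
    · fin_cases l <;> simp [p] <;> omega
    · fin_cases l <;> simp [f]
    · fin_cases l <;> fin_cases l' <;> simp [f, p] at ha hb e ⊢ <;>
        (try split_ifs at e) <;> first
          | omega
          | exact absurd e.symm (hzoff _ (by omega) _ (by omega))
          | exact absurd e (hzoff _ (by omega) _ (by omega))
          | (have := hz.inj _ _ (by omega) (by omega) e; omega)
          | (have := hu.inj _ _ (by omega) (by omega) e; omega)
    · fin_cases l <;> simp [f, p] at ha ⊢
      · have := sym0 (hu.edge (k - (a + 1)) (by omega))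
        rwa [show k - (a + 1) + 1 = k - a by omega] at this
      · exact hu.edge (k + a) (by omega)
      · rcases a.eq_zero_or_pos with rfl | ha0
        · simpa [hz0] using hxk
        · rw [if_neg (by omega)]
          have := hz.edge (a - 1) (by omega)
          rwa [show a - 1 + 1 = a by omega] at this
    · have main : ∀ i j, i ≠ j → T.a i j ≠ 0 → ∀ a, (a < t ∧ u a = i) →
          ∃ l a, a < p l ∧ ((i = f l a ∧ j = f l (a + 1)) ∨ (j = f l a ∧ i = f l (a + 1))) := by
        rintro i j hij h0 a ⟨ha, rfl⟩
        by_cases hj : ∃ b < t, u b = j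
        · obtain ⟨b, hb, rfl⟩ := hj
          have hab : a ≠ b := fun e => hij (by rw [e])
          have hadj : b = a + 1 ∨ a = b + 1 := by
            by_contra hcon
            rcases lt_or_gt_of_ne hab with h' | h'
            · exact h0 (hch a b (by omega) hb)
            · exact h0 (by rw [T.symm.apply]; exact hch b a (by omega) ha)
          rcases hadj with rfl | rfl
          · rcases (show a + 1 ≤ k ∨ k ≤ a by omega) with h' | h'
            · exact ⟨0, k - (a + 1), by simp [p]; omega, Or.inr ⟨by simp [f]; congr 1; omega, by simp [f]; congr 1; omega⟩⟩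
            · exact ⟨1, a - k, by simp [p]; omega, Or.inl ⟨by simp [f]; congr 1; omega, by simp [f]; congr 1; omega⟩⟩
          · rcases (show b + 1 ≤ k ∨ k ≤ b by omega) with h' | h'
            · exact ⟨0, k - (b + 1), by simp [p]; omega, Or.inl ⟨by simp [f]; congr 1; omega, by simp [f]; congr 1; omega⟩⟩
            · exact ⟨1, b - k, by simp [p]; omega, Or.inr ⟨by simp [f]; congr 1; omega, by simp [f]; congr 1; omega⟩⟩
        · push Not at hj
          obtain rfl : j = x := by_contra fun hne => h0 (hsecond j hj hne a ha)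
          obtain rfl : a = k := by_contra fun hne => h0 (hx2 a ha hne)
          exact ⟨2, 0, by simp [p]; omega, Or.inl ⟨by simp [f], by simp [f, hz0]⟩⟩
      have mainz : ∀ i j, i ≠ j → T.a i j ≠ 0 → Off j → ∀ a, (a < s ∧ z a = i) →
          ∃ l a, a < p l ∧ ((i = f l a ∧ j = f l (a + 1)) ∨ (j = f l a ∧ i = f l (a + 1))) := by
        rintro i j hij h0 hj a ⟨ha, rfl⟩
        obtain ⟨b, hb, rfl⟩ : ∃ b < s, z b = j := by
          by_contra hcon; push Not at hcon; exact h0 (hq j hj hcon a ha)
        have hab : a ≠ b := fun e => hij (by rw [e])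
        have hadj : b = a + 1 ∨ a = b + 1 := by
          by_contra hcon
          rcases lt_or_gt_of_ne hab with h' | h'
          · exact h0 (hzch a b (by omega) hb)
          · exact h0 (by rw [T.symm.apply]; exact hzch b a (by omega) ha)
        rcases hadj with rfl | rfl
        · exact ⟨2, a + 1, by simp [p]; omega, Or.inl ⟨by simp [f], by simp [f]⟩⟩
        · exact ⟨2, b + 1, by simp [p]; omega, Or.inr ⟨by simp [f], by simp [f]⟩⟩
      have hcov : ∀ i, (∃ a < t, u a = i) ∨ (Off i ∧ ∃ a < s, z a = i) := by
        classical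
        intro i
        by_contra hcon
        push Not at hcon
        let I := univ.filter fun i : Fin n => (∃ a < t, u a = i) ∨ (Off i ∧ ∃ a < s, z a = i)
        obtain ⟨v, hv, w, hw, h0⟩ := T.connected I ⟨u 0, by simp [I]; exact Or.inl ⟨0, by omega, rfl⟩⟩ fun e => by
          have := e ▸ mem_univ i
          simp only [I, mem_filter, mem_univ, true_and] at this
          rcases this with ⟨a, ha, e'⟩ | ⟨ho, a, ha, e'⟩
          · exact hcon.1 a ha e'
          · exact hcon.2 ho a ha e'
        simp only [I, mem_filter, mem_univ, true_and, not_or] at hv hw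
        have hwoff : Off w := fun a ha e => hw.1 ⟨a, ha, e⟩
        have hwz : ∀ a < s, z a ≠ w := fun a ha e => hw.2 ⟨hwoff, a, ha, e⟩
        rcases hv with ⟨a, ha, rfl⟩ | ⟨-, a, ha, rfl⟩
        · rcases eq_or_ne w x with rfl | hne
          · exact hwz 0 (by omega) hz0
          · exact h0 (hsecond w hwoff hne a ha)
        · exact h0 (hq w hwoff hwz a ha)
      rcases hcov i with ⟨a, ha, rfl⟩ | ⟨hi, a, ha, rfl⟩
      · exact main _ _ hij h0 a ⟨ha, rfl⟩
      · rcases hcov j with ⟨b, hb, rfl⟩ | ⟨hj, -, -, -⟩
        · obtain ⟨l, c, hc, h'⟩ := main _ _ hij.symm (sym0 h0) b ⟨hb, rfl⟩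
          exact ⟨l, c, hc, h'.symm⟩
        · exact mainz _ _ hij h0 hj a ⟨ha, rfl⟩
  exact hstar.classified h2 hn

end Groth.Agent.NumAffine
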