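import Groth.Agent.NumAffine.Classify

/-! Reading off the classification. -/

namespace Groth.Agent.NumAffine

open Models Finset NumType

variable {n : ℕ} {T : NumericalType n}

theorem Is.data (h2 : ∀ i, T.IsMinusTwo i) {M W : ℕ → ℤ} {f : ℕ → ℕ → ℤ} (h : Is T M W f)
    (π : Equiv.Perm (Fin n)) :
    ∃ (σ : Equiv.Perm (Fin n)) (m w : ℤ), (∀ i, T.m (σ i) = M (π i : Fin n) * m) ∧
      (∀ i, T.w (σ i) = W (π i : Fin n) * w) ∧
      (∀ i, T.a (σ i) (σ i) = -2 * (W (π i : Fin n) * w)) ∧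
      (∀ i j, i ≠ j → T.a (σ i) (σ j) = sym f (π i : Fin n) (π j : Fin n) * w) := by
  obtain ⟨σ, m, w, h⟩ := h
  refine ⟨π.trans σ, m, w, fun i => (h (π i)).1, fun i => (h (π i)).2.1, fun i => ?_, fun i j hij => ?_⟩
  · show T.a (σ (π i)) (σ (π i)) = _
    rw [(h2 (σ (π i))).2, (h (π i)).2.1]
  · show T.a (σ (π i)) (σ (π j)) = _
    rcases lt_or_gt_of_ne (fun e => hij (π.injective (Fin.ext e)) : (π i : ℕ) ≠ π j) with hl | hl
    · rw [sym_of_le f hl.le]; exact (h (π i)).2.2 (π j) hl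
    · rw [sym_of_ge f hl.le, T.symm.apply]; exact (h (π j)).2.2 (π i) hl

/-- The relabelling between the two forms of the type with four leaves. -/
def permD4 : Equiv.Perm (Fin 5) := ⟨![2, 0, 1, 3, 4], ![1, 2, 0, 3, 4], by decide, by decide⟩

end Groth.Agent.NumAffine
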