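import Groth.Agent.NumAffine.Pat

/-! The configurations which force an affine pattern. -/

namespace Groth.Agent.NumAffine

open Models Finset Real NumType

variable {n : ℕ} {T : NumericalType n}

/-- `i`, `j` are joined by a triple edge, `j` being the heavy end. -/
def Triple (T : NumericalType n) (i j : Fin n) : Prop := T.w j = 3 * T.w i ∧ T.a i j = T.w j

theorem kind (h2 : ∀ i, T.IsMinusTwo i) (hn : 2 < n) {i j : Fin n} (hij : i ≠ j) (h : T.a i j ≠ 0) :
    Simple T i j ∨ Double T i j ∨ Double T j i ∨ Triple T i j ∨ Triple T j i := by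
  obtain ⟨p, q, hp, hq, hpq, h1, h2'⟩ := pair_cases hn hij (h2 i) (h2 j) h
  have hp4 : p < 4 := by nlinarith
  have hq4 : q < 4 := by nlinarith
  have hs : T.a j i = T.a i j := T.symm.apply i j
  unfold Simple Double Triple
  interval_cases p <;> interval_cases q <;> omega

theorem triple_r {i j : Fin n} (hij : i ≠ j) (h : Triple T i j ∨ Triple T j i) : √3 ≤ r T i j := by
  have hs : T.a j i = T.a i j := T.symm.apply i j
  have hwi := T.w_pos i; have hwj := T.w_pos j
  rcases edge_cases (T := T) hij (by unfold Triple at h; omega) with h' | ⟨h', -⟩ | h'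
  · unfold Triple at h; unfold Simple at h'; omega
  · unfold Triple at h; unfold Double at h'; omega
  · exact h'

theorem simple_of_r {i j : Fin n} (hij : i ≠ j) (h : r T i j = 1) : Simple T i j := by
  have h0 : T.a i j ≠ 0 := fun h0 => by simp [r, h0] at h
  by_contra hs
  have := not_simple_le hij h0 hs
  rw [h] at this
  linarith [Real.lt_sqrt zero_le_one |>.2 (show (1 : ℝ) ^ 2 < 2 by norm_num)]

theorem double_of_r (h2 : ∀ i, T.IsMinusTwo i) (hn : 2 < n) {i j : Fin n} (hij : i ≠ j) (h0 : T.a i j ≠ 0)
    (hs : ¬ Simple T i j) (h : r T i j = √2) : Double T i j ∨ Double T j i := by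
  rcases kind h2 hn hij h0 with h' | h' | h' | h'
  · exact absurd h' hs
  · exact Or.inl h'
  · exact Or.inr h'
  · have := triple_r hij h'
    rw [h] at this
    linarith [Real.sqrt_lt_sqrt zero_le_two (show (2 : ℝ) < 3 by norm_num)]

theorem row (h2 : ∀ i, T.IsMinusTwo i) (i : Fin n) (S : Finset (Fin n)) (hi : i ∉ S)
    (hS : ∀ j, j ≠ i → j ∉ S → T.a i j = 0) : ∑ j ∈ S, T.a i j * T.m j = 2 * T.w i * T.m i := by
  have h := row_eq T i
  rw [(h2 i).2] at h
  rw [sum_subset (fun j hj => mem_erase.2 ⟨ne_of_mem_of_not_mem hj hi, mem_univ _⟩)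
    fun j hj hjS => by rw [hS j (mem_erase.1 hj).1 hjS, zero_mul]]
  linarith

/-- A cycle is the whole type. -/
theorem of_cycle (h2 : ∀ i, T.IsMinusTwo i) (v : ℕ → Fin n) (t : ℕ) (ht : 3 ≤ t)
    (hinj : ∀ a b, a < t → b < t → v a = v b → a = b)
    (hedge : ∀ a, a + 1 < t → T.a (v a) (v (a + 1)) ≠ 0) (hclose : T.a (v 0) (v (t - 1)) ≠ 0) :
    Classified T := by
  have hne : ∀ a b, a < b → b < t → v a ≠ v b := fun a b hab hb e => by
    have := hinj a b (by omega) hb e; omega
  have he : ∀ a b, a < b → b < t → fCyc t a b ≠ 0 → T.a (v a) (v b) ≠ 0 := fun a b hab hb hf => by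
    unfold fCyc at hf
    split_ifs at hf with h
    · rcases h with rfl | ⟨rfl, hb'⟩
      · exact hedge a hb
      · rw [show b = t - 1 by omega]; exact hclose
    · exact absurd rfl hf
  have hrows : ∀ a < t, ∃ S : Finset ℕ, (∀ b ∈ S, b < t ∧ b ≠ a) ∧ (2 : ℤ) ≤ ∑ b ∈ S, sym (fCyc t) a b := by
    intro a ha
    refine ⟨{if a = 0 then t - 1 else a - 1, if a + 1 = t then 0 else a + 1}, fun b hb => ?_, ?_⟩
    · simp only [mem_insert, mem_singleton] at hb
      split_ifs at hb <;> omega
    · rw [sum_pair (by split_ifs <;> first | omega | contradiction | (simp_all; done) | (simp_all; omega))]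
      unfold sym fCyc
      split_ifs <;> first | omega | contradiction | (simp_all; done) | (simp_all; omega)
  obtain ⟨ht', hsurj, hr⟩ := satRP h2 v t (by omega) hinj (fun _ => 1) (fun _ _ => one_pos)
    (fun a b => (fCyc t a b : ℝ)) (fun a b => by unfold fCyc; split_ifs <;> norm_num)
    (fun a b hab hb hf => by
      have := one_le_r (hne a b hab hb) (he a b hab hb fun h => hf (by simp [h]))
      refine le_trans ?_ this
      unfold fCyc; split_ifs <;> norm_num)
    (fun a ha => by
      obtain ⟨S, hS, hle⟩ := hrows a ha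
      refine ⟨S, hS, ?_⟩
      have : (2 : ℝ) ≤ ∑ b ∈ S, ((sym (fCyc t) a b : ℤ) : ℝ) := by exact_mod_cast hle
      simpa [sym, apply_ite (fun z : ℤ => (z : ℝ))] using this)
  have hs : ∀ a, a + 1 < t → Simple T (v a) (v (a + 1)) := fun a ha =>
    simple_of_r (hne _ _ (by omega) ha) (by rw [hr a (a + 1) (by omega) ha]; simp [fCyc])
  have hw : ∀ a < t, T.w (v a) = T.w (v 0) := fun a => by
    induction a with
    | zero => exact fun _ => rfl
    | succ a ih => exact fun ha => (hs a ha).1.symm.trans (ih (by omega))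
  obtain ⟨rfl, hIs⟩ := satP h2 v t hinj (fun _ => 1) (fun _ => 1) (fCyc t) (T.w (v 0)) (T.w_pos _).le
    (fun _ _ => one_pos) (a₁ := 0) (by omega) rfl (fun a ha => by rw [hw a ha, one_mul])
    (fun a b => by unfold fCyc; split_ifs <;> norm_num)
    (fun a b hab hb hf => by
      have hsimp : Simple T (v a) (v b) := simple_of_r (hne a b hab hb) (by
        rw [hr a b hab hb]; unfold fCyc at hf ⊢; split_ifs at hf ⊢ <;> simp_all)
      rw [hsimp.2, hw a (by omega)]
      unfold fCyc; split_ifs <;> linarith [T.w_pos (v 0)])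
    (fun a ha => by simpa using hrows a ha)
  exact .cyc hIs

/-- Two branchings. -/
theorem of_two_branch (h2 : ∀ i, T.IsMinusTwo i) (v : ℕ → Fin n) (t : ℕ) (ht : 5 ≤ t)
    (hinj : ∀ a b, a < t → b < t → v a = v b → a = b)
    (hedge : ∀ a b, a < b → b < t → eD t a b → T.a (v a) (v b) ≠ 0) : Classified T := by
  have hne : ∀ a b, a < b → b < t → v a ≠ v b := fun a b hab hb e => by
    have := hinj a b (by omega) hb e; omega
  have hrows : ∀ a < t, ∃ S : Finset ℕ, (∀ b ∈ S, b < t ∧ b ≠ a) ∧
      2 * mD t a ≤ ∑ b ∈ S, sym (fD t) a b * mD t b := by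
    intro a ha
    have val : ∀ x y, x ≤ y → eD t x y → sym (fD t) x y = 1 ∧ sym (fD t) y x = 1 := fun x y hxy h =>
      ⟨by rw [sym_of_le _ hxy, fD, if_pos h], by rw [sym_of_ge _ hxy, fD, if_pos h]⟩
    by_cases h0 : a ≤ 1
    · refine ⟨{2}, by simp; omega, ?_⟩
      rw [sum_singleton, (val a 2 (by omega) (by unfold eD; omega)).1]
      unfold mD; split_ifs <;> first | omega | contradiction | (simp_all; done) | (simp_all; omega)
    by_cases h1 : t ≤ a + 2
    · refine ⟨{t - 3}, by simp; omega, ?_⟩
      rw [sum_singleton, (val (t - 3) a (by omega) (by unfold eD; omega)).2]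
      unfold mD; split_ifs <;> first | omega | contradiction | (simp_all; done) | (simp_all; omega)
    by_cases h3 : a = 2 ∧ t = 5
    · refine ⟨{0, 1, 3, 4}, by simp; omega, ?_⟩
      obtain ⟨rfl, rfl⟩ := h3
      decide
    by_cases h4 : a = 2
    · refine ⟨{0, 1, 3}, by simp; omega, ?_⟩
      rw [sum_insert (by simp), sum_pair (by omega), (val 0 a (by omega) (by unfold eD; omega)).2,
        (val 1 a (by omega) (by unfold eD; omega)).2, (val a 3 (by omega) (by unfold eD; omega)).1]
      unfold mD; split_ifs <;> first | omega | contradiction | (simp_all; done) | (simp_all; omega)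
    by_cases h5 : a + 3 = t
    · refine ⟨{a - 1, t - 2, t - 1}, by simp; omega, ?_⟩
      rw [sum_insert (by simp; omega), sum_pair (by omega), (val (a - 1) a (by omega) (by unfold eD; omega)).2,
        (val a (t - 2) (by omega) (by unfold eD; omega)).1, (val a (t - 1) (by omega) (by unfold eD; omega)).1]
      unfold mD; split_ifs <;> first | omega | contradiction | (simp_all; done) | (simp_all; omega)
    · refine ⟨{a - 1, a + 1}, by simp; omega, ?_⟩
      rw [sum_pair (by omega), (val (a - 1) a (by omega) (by unfold eD; omega)).2,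
        (val a (a + 1) (by omega) (by unfold eD; omega)).1]
      unfold mD; split_ifs <;> first | omega | contradiction | (simp_all; done) | (simp_all; omega)
  obtain ⟨ht', hsurj, hr⟩ := satRP h2 v t (by omega) hinj (fun a => (mD t a : ℝ))
    (fun a _ => by unfold mD; split_ifs <;> norm_num)
    (fun a b => (fD t a b : ℝ)) (fun a b => by unfold fD; split_ifs <;> norm_num)
    (fun a b hab hb hf => by
      unfold fD at hf ⊢
      split_ifs at hf ⊢ with h
      · simpa using one_le_r (hne a b hab hb) (hedge a b hab hb h)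
      · simp at hf)
    (fun a ha => by
      obtain ⟨S, hS, hle⟩ := hrows a ha
      refine ⟨S, hS, ?_⟩
      have : (2 : ℝ) * mD t a ≤ ∑ b ∈ S, ((sym (fD t) a b * mD t b : ℤ) : ℝ) := by exact_mod_cast hle
      simpa [sym, apply_ite (fun z : ℤ => (z : ℝ))] using this)
  have hs : ∀ a b, a < b → b < t → eD t a b → Simple T (v a) (v b) := fun a b hab hb h =>
    simple_of_r (hne a b hab hb) (by rw [hr a b hab hb]; simp [fD, h])
  have hw2 : ∀ a, 2 ≤ a → a + 2 ≤ t - 0 → a < t → T.w (v a) = T.w (v 2) := fun a => by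
    induction a with
    | zero => omega
    | succ a ih =>
      intro h2a h3a ha
      rcases (show a + 1 = 2 ∨ 2 ≤ a by omega) with h | h
      · rw [h]
      · exact (hs a (a + 1) (by omega) ha (Or.inr (Or.inl ⟨rfl, h, h3a⟩))).1.symm.trans
          (ih h (by omega) (by omega))
  have hw : ∀ a < t, T.w (v a) = T.w (v 2) := fun a ha => by
    rcases (show a ≤ 1 ∨ a + 1 = t ∨ (2 ≤ a ∧ a + 2 ≤ t) by omega) with h | h | h
    · exact (hs a 2 (by omega) (by omega) (Or.inl ⟨h, rfl⟩)).1
    · exact (hs (t - 3) a (by omega) ha (Or.inr (Or.inr ⟨by omega, h⟩))).1.symm.trans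
        (hw2 (t - 3) (by omega) (by omega) (by omega))
    · exact hw2 a h.1 (by omega) ha
  obtain ⟨rfl, hIs⟩ := satP h2 v t hinj (mD t) (fun _ => 1) (fD t) (T.w (v 2)) (T.w_pos _).le
    (fun a _ => by unfold mD; split_ifs <;> norm_num) (a₁ := 0) (by omega) rfl
    (fun a ha => by rw [hw a ha, one_mul]) (fun a b => by unfold fD; split_ifs <;> norm_num)
    (fun a b hab hb hf => by
      unfold fD at hf ⊢
      split_ifs at hf ⊢ with h
      · rw [(hs a b hab hb h).2, hw a (by omega), one_mul]
      · simp at hf)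
    (fun a ha => by simpa using hrows a ha)
  exact .d ht hIs

-- A branching and a multiple edge.
set_option maxHeartbeats 1000000 in
theorem of_branch_double (h2 : ∀ i, T.IsMinusTwo i) (hn : 2 < n) (v : ℕ → Fin n) (t : ℕ) (ht : 4 ≤ t)
    (hinj : ∀ a b, a < t → b < t → v a = v b → a = b)
    (hedge : ∀ a b, a < b → b < t → eB t a b → T.a (v a) (v b) ≠ 0)
    (hns : ¬ Simple T (v 0) (v 1)) : Classified T := by
  have hne : ∀ a b, a < b → b < t → v a ≠ v b := fun a b hab hb e => by
    have := hinj a b (by omega) hb e; omega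
  have h01 : eB t 0 1 := Or.inl ⟨rfl, by omega⟩
  have hr2 : √2 * √2 = 2 := Real.mul_self_sqrt zero_le_two
  have hs2 : (0 : ℝ) < √2 := by positivity
  obtain ⟨ht', hsurj, hr⟩ := satRP h2 v t (by omega) hinj
    (fun a => if a = 0 then √2 else if a + 2 < t then 2 else 1)
    (fun a _ => by split_ifs <;> positivity)
    (fun a b => if eB t a b then (if a = 0 ∧ b = 1 then √2 else 1) else 0)
    (fun a b => by split_ifs <;> positivity)
    (fun a b hab hb hf => by
      split_ifs at hf ⊢ with h h'
      · rw [h'.1, h'.2]; exact not_simple_le (hne 0 1 one_pos (by omega)) (hedge 0 1 one_pos (by omega) h01) hns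
      · exact one_le_r (hne a b hab hb) (hedge a b hab hb h)
      · exact absurd rfl hf)
    (fun a ha => by
      by_cases h0 : a = 0
      · refine ⟨{1}, by simp; omega, ?_⟩
        subst h0
        rw [sum_singleton, sym_of_le _ zero_le_one]
        rw [if_pos h01]
        split_ifs <;> first | omega | contradiction | linarith
      by_cases h1 : t ≤ a + 2
      · refine ⟨{t - 3}, by simp; omega, ?_⟩
        rw [sum_singleton, sym_of_ge _ (show t - 3 ≤ a by omega),
          if_pos (show eB t (t - 3) a by unfold eB; omega)]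
        split_ifs <;> first | omega | contradiction | linarith
      by_cases h3 : a + 3 = t
      · refine ⟨{a - 1, t - 2, t - 1}, by simp; omega, ?_⟩
        rw [sum_insert (by simp; omega), sum_pair (by omega), sym_of_ge _ (show a - 1 ≤ a by omega),
          sym_of_le _ (show a ≤ t - 2 by omega), sym_of_le _ (show a ≤ t - 1 by omega),
          if_pos (show eB t (a - 1) a by unfold eB; omega), if_pos (show eB t a (t - 2) by unfold eB; omega),
          if_pos (show eB t a (t - 1) by unfold eB; omega)]
        split_ifs <;> first | omega | contradiction | linarith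
      · refine ⟨{a - 1, a + 1}, by simp; omega, ?_⟩
        rw [sum_pair (by omega), sym_of_ge _ (show a - 1 ≤ a by omega), sym_of_le _ (show a ≤ a + 1 by omega),
          if_pos (show eB t (a - 1) a by unfold eB; omega), if_pos (show eB t a (a + 1) by unfold eB; omega)]
        split_ifs <;> first | omega | contradiction | linarith)
  have hs : ∀ a b, a < b → b < t → eB t a b → ¬(a = 0 ∧ b = 1) → Simple T (v a) (v b) :=
    fun a b hab hb h h' => simple_of_r (hne a b hab hb) (by rw [hr a b hab hb, if_pos h, if_neg h'])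
  have hd : Double T (v 0) (v 1) ∨ Double T (v 1) (v 0) :=
    double_of_r h2 hn (hne 0 1 one_pos (by omega)) (hedge 0 1 one_pos (by omega) h01) hns
      (by rw [hr 0 1 one_pos (by omega), if_pos h01]; simp)
  have hw1 : ∀ a, 1 ≤ a → a + 2 ≤ t → T.w (v a) = T.w (v 1) := fun a => by
    induction a with
    | zero => omega
    | succ a ih =>
      intro _ h3
      rcases a.eq_zero_or_pos with rfl | h
      · rfl
      · exact (hs a (a + 1) (by omega) (by omega) (Or.inl ⟨rfl, by omega⟩) (by omega)).1.symm.trans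
          (ih h (by omega))
  have hw : ∀ a, 1 ≤ a → a < t → T.w (v a) = T.w (v 1) := fun a h1 ha => by
    rcases (show a + 2 ≤ t ∨ a + 1 = t by omega) with h | h
    · exact hw1 a h1 h
    · exact (hs (t - 3) a (by omega) ha (Or.inr ⟨by omega, h⟩) (by omega)).1.symm.trans
        (hw1 (t - 3) (by omega) (by omega))
  have hrowB : ∀ a < t, ∃ S : Finset ℕ, (∀ b ∈ S, b < t ∧ b ≠ a) ∧
      2 * wB1 a * mB1 t a ≤ ∑ b ∈ S, sym (fB1 t) a b * mB1 t b ∧
      2 * wB2 a * mB2 t a ≤ ∑ b ∈ S, sym (fB2 t) a b * mB2 t b := by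
    intro a ha
    have val : ∀ x y, x ≤ y → eB t x y →
        (sym (fB1 t) x y = if x = 0 ∧ y = 1 then 2 else 1) ∧ (sym (fB1 t) y x = if x = 0 ∧ y = 1 then 2 else 1) ∧
        sym (fB2 t) x y = 2 ∧ sym (fB2 t) y x = 2 := fun x y hxy h => by
      rw [sym_of_le _ hxy, sym_of_ge _ hxy, sym_of_le _ hxy, sym_of_ge _ hxy]
      unfold fB1 fB2
      rw [if_pos h, if_pos h]
      exact ⟨rfl, rfl, rfl, rfl⟩
    by_cases h0 : a = 0
    · refine ⟨{1}, by simp; omega, ?_, ?_⟩ <;> rw [sum_singleton]
      · rw [(val a 1 (by omega) (by unfold eB; omega)).1]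
        unfold wB1 mB1; split_ifs <;> first | omega | contradiction | (simp_all; done) | (simp_all; omega)
      · rw [(val a 1 (by omega) (by unfold eB; omega)).2.2.1]
        unfold wB2 mB2; split_ifs <;> first | omega | contradiction | (simp_all; done) | (simp_all; omega)
    by_cases h1 : t ≤ a + 2
    · refine ⟨{t - 3}, by simp; omega, ?_, ?_⟩ <;> rw [sum_singleton]
      · rw [(val (t - 3) a (by omega) (by unfold eB; omega)).2.1]
        unfold wB1 mB1; split_ifs <;> first | omega | contradiction | (simp_all; done) | (simp_all; omega)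
      · rw [(val (t - 3) a (by omega) (by unfold eB; omega)).2.2.2]
        unfold wB2 mB2; split_ifs <;> first | omega | contradiction | (simp_all; done) | (simp_all; omega)
    by_cases h3 : a + 3 = t
    · refine ⟨{a - 1, t - 2, t - 1}, by simp; omega, ?_, ?_⟩ <;>
        rw [sum_insert (by simp; omega), sum_pair (by omega)]
      · rw [(val (a - 1) a (by omega) (by unfold eB; omega)).2.1, (val a (t - 2) (by omega) (by unfold eB; omega)).1,
          (val a (t - 1) (by omega) (by unfold eB; omega)).1]
        unfold wB1 mB1; split_ifs <;> first | omega | contradiction | (simp_all; done) | (simp_all; omega)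
      · rw [(val (a - 1) a (by omega) (by unfold eB; omega)).2.2.2,
          (val a (t - 2) (by omega) (by unfold eB; omega)).2.2.1, (val a (t - 1) (by omega) (by unfold eB; omega)).2.2.1]
        unfold wB2 mB2; split_ifs <;> first | omega | contradiction | (simp_all; done) | (simp_all; omega)
    · refine ⟨{a - 1, a + 1}, by simp; omega, ?_, ?_⟩ <;> rw [sum_pair (by omega)]
      · rw [(val (a - 1) a (by omega) (by unfold eB; omega)).2.1, (val a (a + 1) (by omega) (by unfold eB; omega)).1]
        unfold wB1 mB1; split_ifs <;> first | omega | contradiction | (simp_all; done) | (simp_all; omega)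
      · rw [(val (a - 1) a (by omega) (by unfold eB; omega)).2.2.2,
          (val a (a + 1) (by omega) (by unfold eB; omega)).2.2.1]
        unfold wB2 mB2; split_ifs <;> first | omega | contradiction | (simp_all; done) | (simp_all; omega)
  rcases hd with hd | hd
  · obtain ⟨rfl, hIs⟩ := satP h2 v t hinj (mB2 t) wB2 (fB2 t) (T.w (v 0)) (T.w_pos _).le
      (fun a _ => by unfold mB2; split_ifs <;> norm_num) (a₁ := t - 1) (by omega)
      (by unfold mB2; rw [if_neg (by omega)])
      (fun a ha => by
        unfold wB2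
        rcases a.eq_zero_or_pos with rfl | h
        · simp
        · rw [if_neg (by omega), hw a h ha, hd.1])
      (fun a b => by unfold fB2; split_ifs <;> norm_num)
      (fun a b hab hb hf => by
        unfold fB2 at hf ⊢
        split_ifs at hf ⊢ with h
        · by_cases h' : a = 0 ∧ b = 1
          · rw [h'.1, h'.2, hd.2, hd.1]
          · rw [(hs a b hab hb h h').2, hw a (by unfold eB at h; omega) (by omega), hd.1]
        · simp at hf)
      (fun a ha => (hrowB a ha).imp fun S h => ⟨h.1, h.2.2⟩)
    exact .b2 ht hIs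
  · obtain ⟨rfl, hIs⟩ := satP h2 v t hinj (mB1 t) wB1 (fB1 t) (T.w (v 1)) (T.w_pos _).le
      (fun a _ => by unfold mB1; split_ifs <;> norm_num) (a₁ := 0) (by omega) rfl
      (fun a ha => by
        unfold wB1
        rcases a.eq_zero_or_pos with rfl | h
        · simp [hd.1]
        · rw [if_neg (by omega), hw a h ha, one_mul])
      (fun a b => by unfold fB1; split_ifs <;> norm_num)
      (fun a b hab hb hf => by
        unfold fB1 at hf ⊢
        split_ifs at hf ⊢ with h h'
        · rw [h'.1, h'.2, T.symm.apply, hd.2, hd.1]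
        · rw [(hs a b hab hb h h').2, hw a (by unfold eB at h; omega) (by omega), one_mul]
        · simp at hf)
      (fun a ha => (hrowB a ha).imp fun S h => ⟨h.1, h.2.1⟩)
    exact .b1 ht hIs

/-- Two multiple edges joined by simple edges. -/
theorem of_two_double (h2 : ∀ i, T.IsMinusTwo i) (v : ℕ → Fin n) (t : ℕ) (ht : 3 ≤ t)
    (hinj : ∀ a b, a < t → b < t → v a = v b → a = b)
    (hs : ∀ a, 1 ≤ a → a + 2 < t → Simple T (v a) (v (a + 1)))
    (hl : Double T (v 0) (v 1) ∨ Double T (v 1) (v 0))
    (hr : Double T (v (t - 2)) (v (t - 1)) ∨ Double T (v (t - 1)) (v (t - 2))) : Classified T := by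
  suffices key : ∀ v : ℕ → Fin n, (∀ a b, a < t → b < t → v a = v b → a = b) →
      (∀ a, 1 ≤ a → a + 2 < t → Simple T (v a) (v (a + 1))) →
      ((Double T (v 0) (v 1) ∧ Double T (v (t - 2)) (v (t - 1))) ∨
        (Double T (v 0) (v 1) ∧ Double T (v (t - 1)) (v (t - 2))) ∨
        (Double T (v 1) (v 0) ∧ Double T (v (t - 2)) (v (t - 1)))) → Classified T by
    rcases hl with hl | hl <;> rcases hr with hr | hr
    · exact key v hinj hs (Or.inl ⟨hl, hr⟩)
    · exact key v hinj hs (Or.inr (Or.inl ⟨hl, hr⟩))
    · exact key v hinj hs (Or.inr (Or.inr ⟨hl, hr⟩))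
    · refine key (fun a => v (t - 1 - a)) (fun a b ha hb e => ?_) (fun a h1 h3 => ?_) (Or.inl ⟨?_, ?_⟩)
      · have := hinj _ _ (by omega) (by omega) e; omega
      · have := (hs (t - 1 - (a + 1)) (by omega) (by omega)).symm
        rwa [show t - 1 - (a + 1) + 1 = t - 1 - a by omega] at this
      · rwa [show t - 1 - 0 = t - 1 by omega, show t - 1 - 1 = t - 2 by omega]
      · rwa [show t - 1 - (t - 2) = 1 by omega, show t - 1 - (t - 1) = 0 by omega]
  intro v hinj hs hlr
  have hw : ∀ a, 1 ≤ a → a + 2 ≤ t → T.w (v a) = T.w (v 1) := fun a => by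
    induction a with
    | zero => omega
    | succ a ih =>
      intro _ h3
      rcases a.eq_zero_or_pos with rfl | h
      · rfl
      · exact (hs a h (by omega)).1.symm.trans (ih h (by omega))
  have hws : ∀ a, 1 ≤ a → a + 2 < t → T.a (v a) (v (a + 1)) = T.w (v 1) := fun a h1 h3 => by
    rw [(hs a h1 h3).2, hw a h1 (by omega)]
  have hrow : ∀ a < t, ∃ S : Finset ℕ, (∀ b ∈ S, b < t ∧ b ≠ a) ∧
      2 * wC1 t a * mC1 t a ≤ ∑ b ∈ S, sym (fC1 t) a b * mC1 t b ∧
      2 * wC2 t a * 1 ≤ ∑ b ∈ S, sym fC2 a b * 1 ∧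
      2 * wC3 t a * mC3 t a ≤ ∑ b ∈ S, sym (fC3 t) a b * mC3 t b := by
    intro a ha
    have val : ∀ x, (sym (fC1 t) x (x + 1) = if x + 1 + 1 = t then 4 else 2) ∧
        (sym (fC1 t) (x + 1) x = if x + 1 + 1 = t then 4 else 2) ∧
        sym fC2 x (x + 1) = 2 ∧ sym fC2 (x + 1) x = 2 ∧
        (sym (fC3 t) x (x + 1) = if x = 0 ∨ x + 1 + 1 = t then 2 else 1) ∧
        (sym (fC3 t) (x + 1) x = if x = 0 ∨ x + 1 + 1 = t then 2 else 1) := fun x => by
      have hx : x ≤ x + 1 := x.le_succ
      rw [sym_of_le _ hx, sym_of_ge _ hx, sym_of_le _ hx, sym_of_ge _ hx, sym_of_le _ hx, sym_of_ge _ hx]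
      unfold fC1 fC2 fC3
      rw [if_pos rfl, if_pos rfl, if_pos rfl]
      exact ⟨rfl, rfl, rfl, rfl, rfl, rfl⟩
    rcases (show a = 0 ∨ a + 1 = t ∨ (1 ≤ a ∧ a + 1 < t) by omega) with rfl | h | h
    · refine ⟨{1}, by simp; omega, ?_, ?_, ?_⟩ <;> rw [sum_singleton]
      · rw [(val 0).1]; unfold wC1 mC1; split_ifs <;> first | omega | contradiction | (simp_all; done) | (simp_all; omega)
      · rw [(val 0).2.2.1]; unfold wC2; split_ifs <;> first | omega | contradiction | (simp_all; done) | (simp_all; omega)
      · rw [(val 0).2.2.2.2.1]; unfold wC3 mC3; split_ifs <;> first | omega | contradiction | (simp_all; done) | (simp_all; omega)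
    · obtain ⟨b, rfl⟩ : ∃ b, a = b + 1 := ⟨a - 1, by omega⟩
      refine ⟨{b}, by simp; omega, ?_, ?_, ?_⟩ <;> rw [sum_singleton]
      · rw [(val b).2.1]; unfold wC1 mC1; split_ifs <;> first | omega | contradiction | (simp_all; done) | (simp_all; omega)
      · rw [(val b).2.2.2.1]; unfold wC2; split_ifs <;> first | omega | contradiction | (simp_all; done) | (simp_all; omega)
      · rw [(val b).2.2.2.2.2]; unfold wC3 mC3; split_ifs <;> first | omega | contradiction | (simp_all; done) | (simp_all; omega)
    · obtain ⟨b, rfl⟩ : ∃ b, a = b + 1 := ⟨a - 1, by omega⟩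
      refine ⟨{b, b + 1 + 1}, by simp; omega, ?_, ?_, ?_⟩ <;> rw [sum_pair (by omega)]
      · rw [(val b).2.1, (val (b + 1)).1]; unfold wC1 mC1; split_ifs <;> first | omega | contradiction | (simp_all; done) | (simp_all; omega)
      · rw [(val b).2.2.2.1, (val (b + 1)).2.2.1]; unfold wC2; split_ifs <;> first | omega | contradiction | (simp_all; done) | (simp_all; omega)
      · rw [(val b).2.2.2.2.2, (val (b + 1)).2.2.2.2.1]; unfold wC3 mC3; split_ifs <;> first | omega | contradiction | (simp_all; done) | (simp_all; omega)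
  have hlast : T.w (v (t - 2)) = T.w (v 1) := hw (t - 2) (by omega) (by omega)
  rcases hlr with ⟨h0, h1⟩ | ⟨h0, h1⟩ | ⟨h0, h1⟩
  · obtain ⟨rfl, hIs⟩ := satP h2 v t hinj (mC1 t) (wC1 t) (fC1 t) (T.w (v 0)) (T.w_pos _).le
      (fun a _ => by unfold mC1; split_ifs <;> norm_num) (a₁ := t - 1) (by omega)
      (by unfold mC1; rw [if_pos (by omega)])
      (fun a ha => by
        unfold wC1
        split_ifs with ha0 hat
        · rw [ha0, one_mul]
        · rw [show a = t - 1 by omega, h1.1, hlast, h0.1]; ring
        · rw [hw a (by omega) (by omega), h0.1])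
      (fun a b => by unfold fC1; split_ifs <;> norm_num)
      (fun a b hab hb hf => by
        unfold fC1 at hf ⊢
        split_ifs at hf ⊢ with h h'
        · rw [show a = t - 2 by omega, show b = t - 1 by omega, h1.2, h1.1, hlast, h0.1]; linarith
        · rcases a.eq_zero_or_pos with rfl | ha1
          · rw [show b = 1 by omega, h0.2, h0.1]
          · rw [h, hws a ha1 (by omega), h0.1]
        · simp at hf)
      (fun a ha => (hrow a ha).imp fun S h => ⟨h.1, h.2.1⟩)
    exact .c1 hIs
  · obtain ⟨rfl, hIs⟩ := satP h2 v t hinj (fun _ => 1) (wC2 t) fC2 (T.w (v 0)) (T.w_pos _).le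
      (fun _ _ => one_pos) (a₁ := 0) (by omega) rfl
      (fun a ha => by
        unfold wC2
        split_ifs with hat
        · rcases hat with rfl | hat
          · rw [one_mul]
          · have := h1.1; rw [hlast, h0.1] at this
            rw [show a = t - 1 by omega]; linarith
        · rw [hw a (by omega) (by omega), h0.1])
      (fun a b => by unfold fC2; split_ifs <;> norm_num)
      (fun a b hab hb hf => by
        unfold fC2 at hf ⊢
        split_ifs at hf ⊢ with h
        · subst h
          rcases a.eq_zero_or_pos with rfl | ha1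
          · rw [zero_add, h0.2, h0.1]
          · rcases (show a + 2 = t ∨ a + 2 < t by omega) with h | h
            · rw [show a = t - 2 by omega, show t - 2 + 1 = t - 1 by omega, T.symm.apply, h1.2, hlast, h0.1]
            · rw [hws a ha1 h, h0.1]
        · simp at hf)
      (fun a ha => (hrow a ha).imp fun S h => ⟨h.1, h.2.2.1⟩)
    exact .c2 hIs
  · obtain ⟨rfl, hIs⟩ := satP h2 v t hinj (mC3 t) (wC3 t) (fC3 t) (T.w (v 1)) (T.w_pos _).le
      (fun a _ => by unfold mC3; split_ifs <;> norm_num) (a₁ := 0) (by omega) rfl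
      (fun a ha => by
        unfold wC3
        split_ifs with hat
        · rcases hat with rfl | hat
          · rw [h0.1]
          · rw [show a = t - 1 by omega, h1.1, hlast]
        · rw [hw a (by omega) (by omega), one_mul])
      (fun a b => by unfold fC3; split_ifs <;> norm_num)
      (fun a b hab hb hf => by
        unfold fC3 at hf ⊢
        split_ifs at hf ⊢ with h h'
        · rcases h' with rfl | h'
          · rw [show b = 1 by omega, T.symm.apply, h0.2, h0.1]
          · rw [show a = t - 2 by omega, show b = t - 1 by omega, h1.2, h1.1, hlast]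
        · rw [h, hws a (by omega) (by omega), one_mul]
        · simp at hf)
      (fun a ha => (hrow a ha).imp fun S h => ⟨h.1, h.2.2.2⟩)
    exact .c3 hIs

/-- A triple edge. -/
theorem of_triple (h2 : ∀ i, T.IsMinusTwo i) (x y z : Fin n) (hxy : x ≠ y) (hxz : x ≠ z) (hyz : y ≠ z)
    (h : T.a x y ≠ 0) (ht : Triple T y z ∨ Triple T z y) : Classified T := by
  let v : ℕ → Fin n := fun a => if a = 0 then x else if a = 1 then y else z
  have hinj : ∀ a b, a < 3 → b < 3 → v a = v b → a = b := fun a b ha hb e => by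
    interval_cases a <;> interval_cases b <;> first | rfl | (simp [v] at e; simp_all)
  have h3 : √3 * √3 = 3 := Real.mul_self_sqrt (by norm_num)
  obtain ⟨hn, -, hr⟩ := satRP h2 v 3 (by omega) hinj (fun a => if a = 0 then 1 else if a = 1 then 2 else √3)
    (fun a _ => by split_ifs <;> positivity)
    (fun a b => if b = a + 1 then (if a = 1 then √3 else 1) else 0)
    (fun a b => by split_ifs <;> positivity)
    (fun a b hab hb hf => by
      obtain ⟨rfl, rfl⟩ | ⟨rfl, rfl⟩ : (a = 0 ∧ b = 1) ∨ (a = 1 ∧ b = 2) := by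
        split_ifs at hf <;> first | omega | exact absurd rfl hf
      · simpa [v] using one_le_r hxy h
      · simpa [v] using triple_r hyz ht)
    (fun a ha => by
      interval_cases a
      · exact ⟨{1}, by simp, by norm_num [sym]⟩
      · exact ⟨{0, 2}, by simp, by norm_num [sym, sum_pair, h3]⟩
      · exact ⟨{1}, by simp, by norm_num [sym]; linarith⟩)
  have hsim : Simple T x y := simple_of_r hxy (by simpa [v] using hr 0 1 (by omega) (by omega))
  rcases ht with ht | ht
  · obtain ⟨-, hIs⟩ := satP h2 v 3 hinj mG1 wG1 fG1 (T.w y) (T.w_pos _).le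
      (fun a _ => by unfold mG1; split_ifs <;> norm_num) (a₁ := 0) (by omega) rfl
      (fun a ha => by interval_cases a <;> simp [v, wG1, hsim.1, ht.1])
      (fun a b => by unfold fG1; split_ifs <;> norm_num)
      (fun a b hab hb hf => by
        have ha : a < 3 := by omega
        interval_cases a <;> interval_cases b <;>
          simp [v, fG1] at hf hab ⊢ <;> simp [hsim.2, hsim.1, ht.2, ht.1])
      (fun a ha => ⟨(range 3).filter fun b => b ≠ a ∧ sym fG1 a b ≠ 0, fun b hb => by
        simp only [mem_filter, mem_range] at hb; exact ⟨hb.1, hb.2.1⟩, by interval_cases a <;> decide⟩)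
    exact .g1 hn.symm hIs
  · obtain ⟨-, hIs⟩ := satP h2 v 3 hinj mG2 wG2 fG2 (T.w z) (T.w_pos _).le
      (fun a _ => by unfold mG2; omega) (a₁ := 0) (by omega) rfl
      (fun a ha => by interval_cases a <;> simp [v, wG2, hsim.1, ht.1])
      (fun a b => by unfold fG2; split_ifs <;> norm_num)
      (fun a b hab hb hf => by
        have ha : a < 3 := by omega
        have := T.symm.apply y z
        interval_cases a <;> interval_cases b <;>
          simp [v, fG2] at hf hab ⊢ <;> simp [hsim.2, hsim.1, ← this, ht.2, ht.1])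
      (fun a ha => ⟨(range 3).filter fun b => b ≠ a ∧ sym fG2 a b ≠ 0, fun b hb => by
        simp only [mem_filter, mem_range] at hb; exact ⟨hb.1, hb.2.1⟩, by interval_cases a <;> decide⟩)
    exact .g2 hn.symm hIs

/-- A double edge inside a long path. -/
theorem of_inner_double (h2 : ∀ i, T.IsMinusTwo i) (v : ℕ → Fin n)
    (hinj : ∀ a b, a < 5 → b < 5 → v a = v b → a = b)
    (s0 : Simple T (v 0) (v 1)) (s1 : Simple T (v 1) (v 2)) (s3 : Simple T (v 3) (v 4))
    (hd : Double T (v 2) (v 3) ∨ Double T (v 3) (v 2)) : Classified T := by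
  rcases hd with hd | hd
  · obtain ⟨hn, hIs⟩ := satP h2 v 5 hinj mF1 wF1 fF1 (T.w (v 2)) (T.w_pos _).le
      (fun a _ => by unfold mF1; split_ifs <;> norm_num) (a₁ := 0) (by omega) rfl
      (fun a ha => by interval_cases a <;> simp [wF1, s0.1, s1.1, ← s3.1, hd.1])
      (fun a b => by unfold fF1; split_ifs <;> norm_num)
      (fun a b hab hb hf => by
        have ha : a < 5 := by omega
        interval_cases a <;> interval_cases b <;>
          simp [fF1] at hf hab ⊢ <;> simp [s0.2, s0.1, s1.1, s1.2, s3.2, hd.2, hd.1])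
      (fun a ha => ⟨(range 5).filter fun b => b ≠ a ∧ sym fF1 a b ≠ 0, fun b hb => by
        simp only [mem_filter, mem_range] at hb; exact ⟨hb.1, hb.2.1⟩, by interval_cases a <;> decide⟩)
    exact .f1 hn.symm hIs
  · obtain ⟨hn, hIs⟩ := satP h2 v 5 hinj mF2 wF2 fF2 (T.w (v 3)) (T.w_pos _).le
      (fun a _ => by unfold mF2; split_ifs <;> first | omega | contradiction | (simp_all; done) | (simp_all; omega)) (a₁ := 0) (by omega) rfl
      (fun a ha => by interval_cases a <;> simp [wF2, s0.1, s1.1, ← s3.1, hd.1])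
      (fun a b => by unfold fF2; split_ifs <;> norm_num)
      (fun a b hab hb hf => by
        have ha : a < 5 := by omega
        have := T.symm.apply (v 2) (v 3)
        interval_cases a <;> interval_cases b <;>
          simp [fF2] at hf hab ⊢ <;> simp [s0.2, s0.1, s1.1, s1.2, s3.2, ← this, hd.2, hd.1])
      (fun a ha => ⟨(range 5).filter fun b => b ≠ a ∧ sym fF2 a b ≠ 0, fun b hb => by
        simp only [mem_filter, mem_range] at hb; exact ⟨hb.1, hb.2.1⟩, by interval_cases a <;> decide⟩)
    exact .f2 hn.symm hIs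

end Groth.Agent.NumAffine
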