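import Groth.Agent.NumAffine.Sat

/-! The affine patterns. -/

namespace Groth.Agent.NumAffine

open Models Finset Real NumType

variable {n : ℕ} {T : NumericalType n}

/-- Symmetrisation of a function given on pairs `a < b`. -/
def sym {α : Type} (f : ℕ → ℕ → α) (a b : ℕ) : α := if a ≤ b then f a b else f b a

theorem sym_comm {α : Type} (f : ℕ → ℕ → α) (a b : ℕ) : sym f a b = sym f b a := by
  unfold sym; split_ifs <;> first | rfl | (rw [show a = b by omega]) | omega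

theorem sym_of_le {α : Type} (f : ℕ → ℕ → α) {a b : ℕ} (h : a ≤ b) : sym f a b = f a b := if_pos h

theorem sym_of_ge {α : Type} (f : ℕ → ℕ → α) {a b : ℕ} (h : b ≤ a) : sym f a b = f b a := by
  rw [sym_comm]; exact if_pos h

theorem satP (h2 : ∀ i, T.IsMinusTwo i) (v : ℕ → Fin n) (t : ℕ)
    (hinj : ∀ a b, a < t → b < t → v a = v b → a = b) (M W : ℕ → ℤ) (f : ℕ → ℕ → ℤ) (w : ℤ) (hw : 0 ≤ w)
    (hM : ∀ a < t, 0 < M a) {a₁ : ℕ} (ha₁ : a₁ < t) (hM1 : M a₁ = 1)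
    (hW : ∀ a < t, T.w (v a) = W a * w) (hf : ∀ a b, 0 ≤ f a b)
    (hA : ∀ a b, a < b → b < t → f a b ≠ 0 → f a b * w ≤ T.a (v a) (v b))
    (hrow : ∀ a < t, ∃ S : Finset ℕ, (∀ b ∈ S, b < t ∧ b ≠ a) ∧ 2 * W a * M a ≤ ∑ b ∈ S, sym f a b * M b) :
    t = n ∧ Is T M W f := by
  classical
  let S : ℕ → Finset ℕ := fun a => (range t).filter fun b => b ≠ a ∧ sym f a b ≠ 0
  have hS : ∀ a < t, ∀ b ∈ S a, b < t ∧ b ≠ a := fun a _ b hb => by
    simp only [S, mem_filter, mem_range] at hb; exact ⟨hb.1, hb.2.1⟩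
  obtain ⟨h1, σ, m, w', h⟩ := satI h2 v t hinj M W (sym f) w hw hM ha₁ hM1 hW S hS
    (fun a ha b hb => by
      simp only [S, mem_filter, mem_range] at hb
      rcases lt_or_gt_of_ne hb.2.1 with hl | hl
      · rw [sym_of_ge f hl.le, T.symm.apply]; exact hA b a hl ha (by simpa [sym_of_ge f hl.le] using hb.2.2)
      · rw [sym_of_le f hl.le]; exact hA a b hl hb.1 (by simpa [sym_of_le f hl.le] using hb.2.2))
    (fun a _ b hb hba hbS => by
      by_contra h; exact hbS (mem_filter.2 ⟨mem_range.2 hb, hba, h⟩))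
    (fun a ha => by
      obtain ⟨S', hS', hle⟩ := hrow a ha
      refine hle.trans (le_trans (le_of_eq (sum_filter_of_ne (p := fun b => sym f a b ≠ 0)
        fun b _ hb h0 => hb (by rw [h0, zero_mul])).symm) ?_)
      refine sum_le_sum_of_subset_of_nonneg (fun b hb => ?_) fun b hb _ => ?_
      · simp only [mem_filter] at hb
        exact mem_filter.2 ⟨mem_range.2 (hS' b hb.1).1, (hS' b hb.1).2, hb.2⟩
      · exact mul_nonneg (by unfold sym; split_ifs <;> exact hf _ _) (hM b (hS a ha b hb).1).le)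
  exact ⟨h1, σ, m, w', fun i => ⟨(h i).1, (h i).2.1, fun j hij => by
    rw [(h i).2.2 j hij, sym_of_le f hij.le]⟩⟩

theorem satRP (h2 : ∀ i, T.IsMinusTwo i) (v : ℕ → Fin n) (t : ℕ) (ht : 0 < t)
    (hinj : ∀ a b, a < t → b < t → v a = v b → a = b) (d : ℕ → ℝ) (hd : ∀ a < t, 0 < d a)
    (f : ℕ → ℕ → ℝ) (hf : ∀ a b, 0 ≤ f a b)
    (hA : ∀ a b, a < b → b < t → f a b ≠ 0 → f a b ≤ r T (v a) (v b))
    (hrow : ∀ a < t, ∃ S : Finset ℕ, (∀ b ∈ S, b < t ∧ b ≠ a) ∧ 2 * d a ≤ ∑ b ∈ S, sym f a b * d b) :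
    t = n ∧ (∀ i, ∃ a < t, v a = i) ∧ ∀ a b, a < b → b < t → r T (v a) (v b) = f a b := by
  classical
  let S : ℕ → Finset ℕ := fun a => (range t).filter fun b => b ≠ a ∧ sym f a b ≠ 0
  obtain ⟨h1, hs, h3, h4⟩ := satR h2 v t ht hinj d hd S (sym f)
    (fun a ha b hb => by
      simp only [S, mem_filter, mem_range] at hb
      refine ⟨hb.1, hb.2.1, ?_⟩
      rcases lt_or_gt_of_ne hb.2.1 with hl | hl
      · rw [sym_of_ge f hl.le, r_symm]; exact hA b a hl ha (by simpa [sym_of_ge f hl.le] using hb.2.2)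
      · rw [sym_of_le f hl.le]; exact hA a b hl hb.1 (by simpa [sym_of_le f hl.le] using hb.2.2))
    (fun a ha => by
      obtain ⟨S', hS', hle⟩ := hrow a ha
      refine hle.trans (le_trans (le_of_eq (sum_filter_of_ne (p := fun b => sym f a b ≠ 0)
        fun b _ hb h0 => hb (by rw [h0, zero_mul])).symm) ?_)
      refine sum_le_sum_of_subset_of_nonneg (fun b hb => ?_) fun b hb _ => ?_
      · simp only [mem_filter] at hb
        exact mem_filter.2 ⟨mem_range.2 (hS' b hb.1).1, (hS' b hb.1).2, hb.2⟩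
      · exact mul_nonneg (by unfold sym; split_ifs <;> exact hf _ _) (hd b (mem_range.1 (mem_filter.1 hb).1)).le)
  refine ⟨h1, hs, fun a b hab hb => ?_⟩
  by_cases h0 : f a b = 0
  · rw [h0]
    have : T.a (v a) (v b) = 0 := h4 a (by omega) b hb (by omega) fun hmem => by
      simp [S, sym_of_le f hab.le, h0] at hmem
    simp [r, this]
  · rw [h3 a (by omega) b (mem_filter.2 ⟨mem_range.2 hb, by omega, by rwa [sym_of_le f hab.le]⟩),
      sym_of_le f hab.le]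

/-! ### The patterns, on pairs `a < b`. -/

/-- Cycle. -/
def fCyc (t a b : ℕ) : ℤ := if b = a + 1 ∨ (a = 0 ∧ b + 1 = t) then 1 else 0

def mC1 (t a : ℕ) : ℤ := if a + 1 = t then 1 else 2
def wC1 (t a : ℕ) : ℤ := if a = 0 then 1 else if a + 1 = t then 4 else 2
def fC1 (t a b : ℕ) : ℤ := if b = a + 1 then (if b + 1 = t then 4 else 2) else 0

def wC2 (t a : ℕ) : ℤ := if a = 0 ∨ a + 1 = t then 1 else 2
def fC2 (a b : ℕ) : ℤ := if b = a + 1 then 2 else 0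

def mC3 (t a : ℕ) : ℤ := if a = 0 ∨ a + 1 = t then 1 else 2
def wC3 (t a : ℕ) : ℤ := if a = 0 ∨ a + 1 = t then 2 else 1
def fC3 (t a b : ℕ) : ℤ := if b = a + 1 then (if a = 0 ∨ b + 1 = t then 2 else 1) else 0

/-- The edges of a path with a further leaf at the last but two vertex. -/
abbrev eB (t a b : ℕ) : Prop := (b = a + 1 ∧ b + 2 ≤ t) ∨ (a + 3 = t ∧ b + 1 = t)

def mB1 (t a : ℕ) : ℤ := if a = 0 then 1 else if a + 2 < t then 2 else 1
def wB1 (a : ℕ) : ℤ := if a = 0 then 2 else 1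
def fB1 (t a b : ℕ) : ℤ := if eB t a b then (if a = 0 ∧ b = 1 then 2 else 1) else 0

def mB2 (t a : ℕ) : ℤ := if a + 2 < t then 2 else 1
def wB2 (a : ℕ) : ℤ := if a = 0 then 1 else 2
def fB2 (t a b : ℕ) : ℤ := if eB t a b then 2 else 0

/-- The edges of a path with further leaves at both ends. -/
abbrev eD (t a b : ℕ) : Prop :=
  (a ≤ 1 ∧ b = 2) ∨ (b = a + 1 ∧ 2 ≤ a ∧ b + 2 ≤ t) ∨ (a + 3 = t ∧ b + 1 = t)

def mD (t a : ℕ) : ℤ := if a ≤ 1 then 1 else if a + 2 < t then 2 else 1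
def fD (t a b : ℕ) : ℤ := if eD t a b then 1 else 0

def mG1 (a : ℕ) : ℤ := if a = 1 then 2 else 1
def wG1 (a : ℕ) : ℤ := if a = 2 then 3 else 1
def fG1 (a b : ℕ) : ℤ := if b = a + 1 then (if a = 1 then 3 else 1) else 0
def mG2 (a : ℕ) : ℤ := a + 1
def wG2 (a : ℕ) : ℤ := if a = 2 then 1 else 3
def fG2 (a b : ℕ) : ℤ := if b = a + 1 then 3 else 0

def mF1 (a : ℕ) : ℤ := if a = 2 then 3 else if a = 1 ∨ a = 3 then 2 else 1
def wF1 (a : ℕ) : ℤ := if 3 ≤ a then 2 else 1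
def fF1 (a b : ℕ) : ℤ := if b = a + 1 then (if 2 ≤ a then 2 else 1) else 0
def mF2 (a : ℕ) : ℤ := if a = 4 then 2 else a + 1
def wF2 (a : ℕ) : ℤ := if 3 ≤ a then 1 else 2
def fF2 (a b : ℕ) : ℤ := if b = a + 1 then (if 3 ≤ a then 1 else 2) else 0

def mE6 (a : ℕ) : ℤ := if a = 2 then 3 else if a = 1 ∨ a = 4 ∨ a = 6 then 2 else 1
def fE6 (a b : ℕ) : ℤ :=
  if (a, b) ∈ [(0, 1), (1, 2), (2, 4), (2, 6), (3, 4), (5, 6)] then 1 else 0
def mE7 (a : ℕ) : ℤ := if a ≤ 3 then a + 1 else if a = 4 then 3 else if a = 6 then 1 else 2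
def fE7 (a b : ℕ) : ℤ :=
  if (a, b) ∈ [(0, 1), (1, 2), (2, 3), (3, 4), (3, 7), (4, 5), (5, 6)] then 1 else 0
def mE8 (a : ℕ) : ℤ := if a ≤ 5 then a + 1 else if a = 6 then 4 else if a = 7 then 2 else 3
def fE8 (a b : ℕ) : ℤ :=
  if (a, b) ∈ [(0, 1), (1, 2), (2, 3), (3, 4), (4, 5), (5, 6), (5, 8), (6, 7)] then 1 else 0

/-- The classification of minimal numerical types of genus one on at least three indices. -/
inductive Classified (T : NumericalType n) : Prop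
  | cyc (h : Is T (fun _ => 1) (fun _ => 1) (fCyc n))
  | c1 (h : Is T (mC1 n) (wC1 n) (fC1 n))
  | c2 (h : Is T (fun _ => 1) (wC2 n) fC2)
  | c3 (h : Is T (mC3 n) (wC3 n) (fC3 n))
  | b1 (hn : 4 ≤ n) (h : Is T (mB1 n) wB1 (fB1 n))
  | b2 (hn : 4 ≤ n) (h : Is T (mB2 n) wB2 (fB2 n))
  | d (hn : 5 ≤ n) (h : Is T (mD n) (fun _ => 1) (fD n))
  | g1 (hn : n = 3) (h : Is T mG1 wG1 fG1)
  | g2 (hn : n = 3) (h : Is T mG2 wG2 fG2)
  | f1 (hn : n = 5) (h : Is T mF1 wF1 fF1)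
  | f2 (hn : n = 5) (h : Is T mF2 wF2 fF2)
  | e6 (hn : n = 7) (h : Is T mE6 (fun _ => 1) fE6)
  | e7 (hn : n = 8) (h : Is T mE7 (fun _ => 1) fE7)
  | e8 (hn : n = 9) (h : Is T mE8 (fun _ => 1) fE8)

end Groth.Agent.NumAffine
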