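import Groth.Agent.NumType.Chain
import Groth.Agent.NumType.Genus

/-! Saturation: a null configuration of `(-2)`-indices is the whole numerical type. -/

namespace Groth.Agent.NumAffine

open Models Finset Real NumType

variable {n : ℕ} {T : NumericalType n}

/-- A nonnegative nonzero vector which is semipositive on its support is a multiple of `m`. -/
theorem core (x : Fin n → ℝ) (hx : ∀ i, 0 ≤ x i) (h0 : ∃ i, x i ≠ 0)
    (hrow : ∀ i, 0 < x i → 0 ≤ ∑ j, (T.a i j : ℝ) * x j) :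
    (∀ i, 0 < x i) ∧ (∀ i, ∑ j, (T.a i j : ℝ) * x j = 0) ∧
      ∀ i j, x i * T.m j = x j * T.m i := by
  have hm : ∀ i, (0 : ℝ) < T.m i := fun i => by exact_mod_cast T.m_pos i
  set y : Fin n → ℝ := fun i => x i / T.m i
  have hxy : ∀ i, x i = T.m i * y i := fun i => by simp [y, mul_div_cancel₀ _ (hm i).ne']
  have hf := form_nonpos (aR_symm T) (fun i j h => by simpa [aR] using T.offDiag_nonneg i j h) hm
    (fun i => (aR_mul_m T i).le) y
  simp only [aR, ← hxy] at hf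
  have hQ : 0 ≤ ∑ i, ∑ j, (T.a i j : ℝ) * x i * x j := sum_nonneg fun i _ => by
    rw [sum_congr rfl fun j _ => show (T.a i j : ℝ) * x i * x j = x i * (T.a i j * x j) by ring, ← mul_sum]
    rcases (hx i).eq_or_lt with h | h
    · simp [← h]
    · exact mul_nonneg h.le (hrow i h)
  have hc := (hf.2 (le_antisymm hf.1 hQ)).2
  have hconn : ∀ I : Finset (Fin n), I.Nonempty → I ≠ univ →
      ∃ i ∈ I, ∃ j ∉ I, (T.a i j : ℝ) ≠ 0 := fun I h1 h2 => by
    simpa using T.connected I h1 h2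
  obtain ⟨i₀, hi₀⟩ := h0
  have hy : ∀ i, y i = y i₀ := const_of_connected hconn y hc i₀
  have hy0 : 0 < y i₀ := div_pos ((hx i₀).lt_of_ne' hi₀) (hm i₀)
  refine ⟨fun i => by rw [hxy i, hy i]; exact mul_pos (hm i) hy0, fun i => ?_, fun i j => ?_⟩
  · have h := aR_mul_m T i
    simp only [aR] at h
    rw [sum_congr rfl fun j _ => show (T.a i j : ℝ) * x j = y i₀ * (T.a i j * T.m j) by rw [hxy j, hy j]; ring,
      ← mul_sum, h, mul_zero]
  · rw [hxy i, hxy j, hy i, hy j]; ring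

/-- Saturation of a configuration. -/
theorem sat (h2 : ∀ i, T.IsMinusTwo i) (v : ℕ → Fin n) (t : ℕ) (ht : 0 < t)
    (hinj : ∀ a b, a < t → b < t → v a = v b → a = b) (x : ℕ → ℝ) (hx : ∀ a < t, 0 < x a)
    (S : ℕ → Finset ℕ) (L : ℕ → ℕ → ℝ) (hS : ∀ a < t, ∀ b ∈ S a, b < t ∧ b ≠ a ∧ L a b ≤ T.a (v a) (v b))
    (hrow : ∀ a < t, 2 * T.w (v a) * x a ≤ ∑ b ∈ S a, L a b * x b) :
    t = n ∧ (∀ i, ∃ a < t, v a = i) ∧ (∀ a < t, ∀ b ∈ S a, (T.a (v a) (v b) : ℝ) = L a b) ∧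
      (∀ a < t, ∀ b < t, b ≠ a → b ∉ S a → T.a (v a) (v b) = 0) ∧
      (∀ a < t, ∀ b < t, x a * T.m (v b) = x b * T.m (v a)) := by
  classical
  let X : Fin n → ℝ := fun i => if h : ∃ a < t, v a = i then x h.choose else 0
  have hX : ∀ a < t, X (v a) = x a := fun a ha => by
    have h : ∃ a' < t, v a' = v a := ⟨a, ha, rfl⟩
    simp only [X, dif_pos h]
    exact congrArg x (hinj _ _ h.choose_spec.1 ha h.choose_spec.2)
  have hX0 : ∀ i, 0 ≤ X i := fun i => by
    by_cases h : ∃ a < t, v a = i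
    · obtain ⟨a, ha, rfl⟩ := h; rw [hX a ha]; exact (hx a ha).le
    · simp [X, h]
  have hinjS : ∀ a < t, Set.InjOn v (S a) := fun a ha b hb c hc e =>
    hinj b c (hS a ha b hb).1 (hS a ha c hc).1 e
  have hnot : ∀ a < t, v a ∉ (S a).image v := fun a ha hmem => by
    obtain ⟨b, hb, e⟩ := mem_image.1 hmem
    exact (hS a ha b hb).2.1 (hinj b a (hS a ha b hb).1 ha e)
  have hsplit : ∀ a < t, ∑ j, (T.a (v a) j : ℝ) * X j = -2 * T.w (v a) * x a +
      (∑ b ∈ S a, (T.a (v a) (v b) : ℝ) * x b) +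
      ∑ j ∈ univ \ insert (v a) ((S a).image v), (T.a (v a) j : ℝ) * X j := fun a ha => by
    rw [← sum_sdiff (subset_univ (insert (v a) ((S a).image v))), sum_insert (hnot a ha),
      sum_image (hinjS a ha), hX a ha, (h2 (v a)).2]
    rw [sum_congr rfl fun b hb => show (T.a (v a) (v b) : ℝ) * X (v b) = T.a (v a) (v b) * x b by
      rw [hX b (hS a ha b hb).1]]
    push_cast; ring
  have hrest : ∀ a < t, ∀ j ∈ univ \ insert (v a) ((S a).image v), 0 ≤ (T.a (v a) j : ℝ) * X j :=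
    fun a _ j hj => by
      simp only [mem_sdiff, mem_insert, not_or] at hj
      exact mul_nonneg (by exact_mod_cast T.offDiag_nonneg _ _ (Ne.symm hj.2.1)) (hX0 j)
  have hdiff : ∀ a < t, ∀ b ∈ S a, 0 ≤ ((T.a (v a) (v b) : ℝ) - L a b) * x b := fun a ha b hb =>
    mul_nonneg (sub_nonneg.2 (hS a ha b hb).2.2) (hx b (hS a ha b hb).1).le
  obtain ⟨hpos, hzero, hprop⟩ := core (T := T) X hX0 ⟨v 0, by rw [hX 0 ht]; exact (hx 0 ht).ne'⟩ fun i hi => by
    obtain ⟨a, ha, rfl⟩ : ∃ a < t, v a = i := by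
      by_contra h; simp [X, h] at hi
    rw [hsplit a ha]
    have h1 := sum_nonneg (hrest a ha)
    have h3 := sum_nonneg (hdiff a ha)
    simp only [sub_mul, sum_sub_distrib] at h3
    linarith [hrow a ha]
  have hsurj : ∀ i, ∃ a < t, v a = i := fun i => by
    by_contra h
    have := hpos i
    simp [X, h] at this
  have hcard : t = n := by
    have : (range t).image v = univ := eq_univ_of_forall fun i => by
      obtain ⟨a, ha, rfl⟩ := hsurj i
      exact mem_image_of_mem _ (mem_range.2 ha)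
    have h := congrArg Finset.card this
    rwa [card_image_of_injOn (fun a ha b hb => hinj a b (mem_range.1 ha) (mem_range.1 hb)), card_range,
      card_univ, Fintype.card_fin] at h
  have hz : ∀ a < t, (∑ b ∈ S a, ((T.a (v a) (v b) : ℝ) - L a b) * x b = 0) ∧
      ∑ j ∈ univ \ insert (v a) ((S a).image v), (T.a (v a) j : ℝ) * X j = 0 := fun a ha => by
    have h1 := sum_nonneg (hrest a ha)
    have h3 := sum_nonneg (hdiff a ha)
    have h4 := hzero (v a)
    rw [hsplit a ha] at h4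
    have h5 := hrow a ha
    simp only [sub_mul, sum_sub_distrib] at h3 ⊢
    constructor <;> linarith
  refine ⟨hcard, hsurj, fun a ha b hb => ?_, fun a ha b hb hba hbS => ?_, fun a ha b hb => ?_⟩
  · have := (sum_eq_zero_iff_of_nonneg (hdiff a ha)).1 (hz a ha).1 b hb
    rcases mul_eq_zero.1 this with h | h
    · linarith
    · exact absurd h (hx b (hS a ha b hb).1).ne'
  · have hmem : v b ∈ univ \ insert (v a) ((S a).image v) := by
      simp only [mem_sdiff, mem_univ, true_and, mem_insert, mem_image, not_or, not_exists, not_and]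
      exact ⟨fun e => hba (hinj b a hb ha e), fun c hc e => hbS (hinj c b (hS a ha c hc).1 hb e ▸ hc)⟩
    have := (sum_eq_zero_iff_of_nonneg (hrest a ha)).1 (hz a ha).2 (v b) hmem
    rw [hX b hb] at this
    rcases mul_eq_zero.1 this with h | h
    · exact_mod_cast h
    · exact absurd h (hx b hb).ne'
  · have := hprop (v a) (v b)
    rwa [hX a ha, hX b hb] at this

/-- Saturation with normalised intersection numbers: all bounds are attained. -/
theorem satR (h2 : ∀ i, T.IsMinusTwo i) (v : ℕ → Fin n) (t : ℕ) (ht : 0 < t)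
    (hinj : ∀ a b, a < t → b < t → v a = v b → a = b) (d : ℕ → ℝ) (hd : ∀ a < t, 0 < d a)
    (S : ℕ → Finset ℕ) (c : ℕ → ℕ → ℝ) (hS : ∀ a < t, ∀ b ∈ S a, b < t ∧ b ≠ a ∧ c a b ≤ r T (v a) (v b))
    (hrow : ∀ a < t, 2 * d a ≤ ∑ b ∈ S a, c a b * d b) :
    t = n ∧ (∀ i, ∃ a < t, v a = i) ∧ (∀ a < t, ∀ b ∈ S a, r T (v a) (v b) = c a b) ∧
      (∀ a < t, ∀ b < t, b ≠ a → b ∉ S a → T.a (v a) (v b) = 0) := by
  obtain ⟨h1, h2', h3, h4, -⟩ := sat h2 v t ht hinj (fun a => d a / √(T.w (v a)))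
    (fun a ha => div_pos (hd a ha) (sqrt_w_pos T _)) S
    (fun a b => c a b * (√(T.w (v a)) * √(T.w (v b))))
    (fun a ha b hb => ⟨(hS a ha b hb).1, (hS a ha b hb).2.1, by
      have := (hS a ha b hb).2.2
      rwa [r, le_div_iff₀ (mul_pos (sqrt_w_pos T _) (sqrt_w_pos T _))] at this⟩)
    (fun a ha => by
      have hs := sqrt_w_pos T (v a)
      have he : (T.w (v a) : ℝ) = √(T.w (v a)) * √(T.w (v a)) :=
        (Real.mul_self_sqrt (by exact_mod_cast (T.w_pos _).le)).symm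
      rw [sum_congr rfl fun b hb => show c a b * (√(T.w (v a)) * √(T.w (v b))) * (d b / √(T.w (v b))) =
          √(T.w (v a)) * (c a b * d b) by have := sqrt_w_pos T (v b); field_simp, ← mul_sum]
      nth_rw 1 [he]
      calc 2 * (√(T.w (v a)) * √(T.w (v a))) * (d a / √(T.w (v a))) = √(T.w (v a)) * (2 * d a) := by
            field_simp
        _ ≤ _ := mul_le_mul_of_nonneg_left (hrow a ha) hs.le)
  exact ⟨h1, h2', fun a ha b hb => by
    rw [r, h3 a ha b hb, mul_div_assoc, div_self (mul_pos (sqrt_w_pos T _) (sqrt_w_pos T _)).ne', mul_one], h4⟩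

/-- `T` is, up to order and scale, the pattern `M, W, A`. -/
def Is (T : NumericalType n) (M W : ℕ → ℤ) (A : ℕ → ℕ → ℤ) : Prop :=
  ∃ σ : Equiv.Perm (Fin n), ∃ m w : ℤ, ∀ i : Fin n, T.m (σ i) = M i * m ∧ T.w (σ i) = W i * w ∧
    ∀ j : Fin n, (i : ℕ) < j → T.a (σ i) (σ j) = A i j * w

/-- Saturation of an integral pattern. -/
theorem satI (h2 : ∀ i, T.IsMinusTwo i) (v : ℕ → Fin n) (t : ℕ)
    (hinj : ∀ a b, a < t → b < t → v a = v b → a = b) (M W : ℕ → ℤ) (A : ℕ → ℕ → ℤ) (w : ℤ) (hw : 0 ≤ w)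
    (hM : ∀ a < t, 0 < M a) {a₁ : ℕ} (ha₁ : a₁ < t) (hM1 : M a₁ = 1)
    (hW : ∀ a < t, T.w (v a) = W a * w) (S : ℕ → Finset ℕ)
    (hS : ∀ a < t, ∀ b ∈ S a, b < t ∧ b ≠ a) (hA : ∀ a < t, ∀ b ∈ S a, A a b * w ≤ T.a (v a) (v b))
    (hA0 : ∀ a < t, ∀ b < t, b ≠ a → b ∉ S a → A a b = 0)
    (hrow : ∀ a < t, 2 * W a * M a ≤ ∑ b ∈ S a, A a b * M b) : t = n ∧ Is T M W A := by
  obtain ⟨h1, hsurj, h3, h4, h5⟩ := sat h2 v t (by omega) hinj (fun a => (M a : ℝ))
    (fun a ha => by exact_mod_cast hM a ha) S (fun a b => ((A a b * w : ℤ) : ℝ))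
    (fun a ha b hb => ⟨(hS a ha b hb).1, (hS a ha b hb).2, by exact_mod_cast hA a ha b hb⟩)
    (fun a ha => by
      rw [hW a ha]
      have : 2 * (W a * w) * M a ≤ ∑ b ∈ S a, A a b * w * M b := by
        rw [sum_congr rfl fun b _ => show A a b * w * M b = w * (A a b * M b) by ring, ← mul_sum]
        calc 2 * (W a * w) * M a = w * (2 * W a * M a) := by ring
          _ ≤ _ := mul_le_mul_of_nonneg_left (hrow a ha) hw
      exact_mod_cast this)
  subst h1
  refine ⟨rfl, Equiv.ofBijective (fun i => v i) ((Finite.injective_iff_bijective).1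
    fun i j e => Fin.ext (hinj i j i.2 j.2 e)), T.m (v a₁), w, fun i => ⟨?_, hW i i.2, fun j hij => ?_⟩⟩
  · have := h5 i i.2 a₁ ha₁
    rw [hM1, Int.cast_one, one_mul] at this
    exact_mod_cast this.symm
  · show T.a (v i) (v j) = A i j * w
    by_cases hb : (j : ℕ) ∈ S i
    · have := h3 i i.2 j hb; exact_mod_cast this
    · rw [h4 i i.2 j j.2 (by omega) hb, hA0 i i.2 j j.2 (by omega) hb, zero_mul]

end Groth.Agent.NumAffine
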